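import Groth.Agent.DEquiv.K370.Tower
import Groth.Agent.Krr.H444.LFTrunc
import Groth.Agent.PerfA.CohSerre
import Mathlib.Algebra.Homology.DerivedCategory.SingleTriangle
import Mathlib.Algebra.Homology.DerivedCategory.TStructure

/-!
# The tower of a resolution

For a resolution `⋯ ⟶ C_1 ⟶ C_0 ⟶ Q ⟶ 0` in an abelian category, the partial convolutions of a Postnikov system of
`(C_n[0])` sit in triangles `Z_n[n] ⟶ Y_n[n] ⟶ Q ⟶` where `Z_n` is the syzygy.
-/

set_option autoImplicit false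
set_option linter.unusedSectionVars false

universe w v u

open CategoryTheory CategoryTheory.Limits CategoryTheory.Pretriangulated CategoryTheory.Triangulated

namespace K370.TowerCoh

open K370.Tower DerivedCategory

section Tri

variable {C : Type u} [Category.{v} C] [Preadditive C] [HasZeroObject C] [HasShift C ℤ]
  [∀ n : ℤ, (shiftFunctor C n).Additive] [Pretriangulated C]

/-- Transport of distinguished triangles. -/
theorem dist_of_iso {X Y Z X' Y' Z' : C} {u : X ⟶ Y} {v : Y ⟶ Z} {w : Z ⟶ X⟦(1 : ℤ)⟧}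
    (h : Triangle.mk u v w ∈ distTriang C) (a : X ≅ X') (b : Y ≅ Y') (c : Z ≅ Z') {u' : X' ⟶ Y'} {v' : Y' ⟶ Z'}
    {w' : Z' ⟶ X'⟦(1 : ℤ)⟧} (h1 : u ≫ b.hom = a.hom ≫ u') (h2 : v ≫ c.hom = b.hom ≫ v')
    (h3 : w ≫ a.hom⟦(1 : ℤ)⟧' = c.hom ≫ w') : Triangle.mk u' v' w' ∈ distTriang C := by
  refine isomorphic_distinguished _ h _ (Iso.symm (Triangle.isoMk _ _ a b c ?_ ?_ ?_))
  · exact h1
  · exact h2
  · exact h3

theorem dist_of_iso₃ {X Y Z Z' : C} {u : X ⟶ Y} {v : Y ⟶ Z} {w : Z ⟶ X⟦(1 : ℤ)⟧}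
    (h : Triangle.mk u v w ∈ distTriang C) (c : Z ≅ Z') :
    Triangle.mk u (v ≫ c.hom) (c.inv ≫ w) ∈ distTriang C :=
  dist_of_iso h (Iso.refl _) (Iso.refl _) c (by simp) (by simp) (by simp)

theorem dist_of_iso₂ {X Y Z Y' : C} {u : X ⟶ Y} {v : Y ⟶ Z} {w : Z ⟶ X⟦(1 : ℤ)⟧}
    (h : Triangle.mk u v w ∈ distTriang C) (b : Y ≅ Y') :
    Triangle.mk (u ≫ b.hom) (b.inv ≫ v) w ∈ distTriang C :=
  dist_of_iso h (Iso.refl _) b (Iso.refl _) (by simp) (by simp) (by simp)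

end Tri

variable {A : Type u} [Category.{v} A] [Abelian A] [HasDerivedCategory.{w} A]

theorem homVan_single (M N : A) : HomVan ((singleFunctor A 0).obj M) ((singleFunctor A 0).obj N) := by
  intro r hr f
  exact TStructure.t.zero_of_isLE_of_isGE f (-r) 0 (by lia)
    (TStructure.t.isLE_shift ((singleFunctor A 0).obj M) 0 r (-r) (by lia)) inferInstance

/-- The data of a resolution, with chosen syzygies. -/
structure Syz (C : ℕ → A) (d : ∀ n, C (n + 1) ⟶ C n) (Q : A) where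
  /-- The syzygies. -/
  Z : ℕ → A
  /-- The inclusions. -/
  i : ∀ n, Z n ⟶ C n
  /-- The corestrictions of the differentials. -/
  e : ∀ n, C (n + 1) ⟶ Z n
  /-- The augmentation. -/
  π : C 0 ⟶ Q
  fac : ∀ n, e n ≫ i n = d n
  w0 : i 0 ≫ π = 0
  ses0 : (ShortComplex.mk (i 0) π w0).ShortExact
  ws : ∀ n, i (n + 1) ≫ e n = 0
  ses : ∀ n, (ShortComplex.mk (i (n + 1)) (e n) (ws n)).ShortExact

variable {C : ℕ → A} {d : ∀ n, C (n + 1) ⟶ C n} {Q : A}

theorem key (S : Syz C d Q)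
    (T : Tower (fun n => (singleFunctor A 0).obj (C n)) (fun n => (singleFunctor A 0).map (d n))) (n : ℕ) :
    ∃ u : (singleFunctor A 0).obj (S.Z n) ⟶ T.Y n, u ≫ T.j n = (singleFunctor A 0).map (S.i n) ∧
      ∃ (R : DerivedCategory A) (v : T.Y n ⟶ R) (w : R ⟶ ((singleFunctor A 0).obj (S.Z n))⟦(1 : ℤ)⟧),
        Triangle.mk u v w ∈ distTriang (DerivedCategory A) ∧ Nonempty (R⟦(n : ℤ)⟧ ≅ (singleFunctor A 0).obj Q) := by
  induction n with
  | zero =>
    have := T.iso0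
    let ej : T.Y 0 ≅ (singleFunctor A 0).obj (C 0) := asIso (T.j 0)
    refine ⟨(singleFunctor A 0).map (S.i 0) ≫ ej.inv, by simp [ej], (singleFunctor A 0).obj Q,
      ej.hom ≫ (singleFunctor A 0).map S.π, S.ses0.singleδ, ?_, ⟨(shiftFunctorZero _ ℤ).app _⟩⟩
    exact dist_of_iso₂ S.ses0.singleTriangle_distinguished ej.symm
  | succ n ih =>
    obtain ⟨u, hu, R, v, w, hT, ⟨eR⟩⟩ := ih
    have hp : (singleFunctor A 0).map (S.e n) ≫ u = T.p n := by
      rw [← sub_eq_zero]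
      refine T.inj _ (fun j => homVan_single _ _) n _ ?_
      rw [Preadditive.sub_comp, Category.assoc, hu, T.fac, ← Functor.map_comp, S.fac, sub_self]
    have h23 := inv_rot_of_distTriang _ hT
    have o := Triangulated.someOctahedron' hp (S.ses n).singleTriangle_distinguished h23 (T.dist n)
    refine ⟨o.m₁, o.comm₁, _, o.m₃, _, o.mem, ⟨?_⟩⟩
    refine ((shiftFunctorAdd' (DerivedCategory A) (-1 : ℤ) ((n + 1 : ℕ) : ℤ) (n : ℤ)
      (by push_cast; lia)).symm.app R) ≪≫ eR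

/-- **N0d**, abstract form. -/
theorem exists_triangle (S : Syz C d Q)
    (T : Tower (fun n => (singleFunctor A 0).obj (C n)) (fun n => (singleFunctor A 0).map (d n))) (n : ℕ) :
    ∃ (f : ((singleFunctor A 0).obj (S.Z n))⟦(n : ℤ)⟧ ⟶ (T.Y n)⟦(n : ℤ)⟧) (g : (T.Y n)⟦(n : ℤ)⟧ ⟶ (singleFunctor A 0).obj Q)
      (h : (singleFunctor A 0).obj Q ⟶ (((singleFunctor A 0).obj (S.Z n))⟦(n : ℤ)⟧)⟦(1 : ℤ)⟧),
      Triangle.mk f g h ∈ distTriang (DerivedCategory A) := by
  obtain ⟨u, hu, R, v, w, hT, ⟨eR⟩⟩ := key S T n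
  have h1 := Triangle.shift_distinguished _ hT (n : ℤ)
  refine ⟨((Triangle.shiftFunctor _ (n : ℤ)).obj (Triangle.mk u v w)).mor₁,
    ((Triangle.shiftFunctor _ (n : ℤ)).obj (Triangle.mk u v w)).mor₂ ≫ eR.hom,
    eR.inv ≫ ((Triangle.shiftFunctor _ (n : ℤ)).obj (Triangle.mk u v w)).mor₃,
    dist_of_iso₃ h1 eR⟩

section Res

open Groth.Agent.Krr.H444.LFTrunc

variable {L : ChainComplex A ℕ} (π : L ⟶ (ChainComplex.single₀ A).obj Q)

/-- The syzygies. -/
noncomputable def zz : ℕ → A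
  | 0 => kernel (aug π)
  | (n + 1) => kernel (L.d (n + 1) n)

/-- The inclusions of the syzygies. -/
noncomputable def ii : ∀ n, zz π n ⟶ L.X n
  | 0 => kernel.ι (aug π)
  | (n + 1) => kernel.ι (L.d (n + 1) n)

/-- The corestricted differentials. -/
noncomputable def ee : ∀ n, L.X (n + 1) ⟶ zz π n
  | 0 => kernel.lift (aug π) (L.d 1 0) (d_aug π)
  | (n + 1) => kernel.lift (L.d (n + 1) n) (L.d (n + 2) (n + 1)) (L.d_comp_d _ _ _)

theorem ee_ii (n : ℕ) : ee π n ≫ ii π n = L.d (n + 1) n := by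
  cases n with
  | zero => exact kernel.lift_ι _ _ _
  | succ n => exact kernel.lift_ι _ _ _

instance mono_ii (n : ℕ) : Mono (ii π n) := by
  cases n with
  | zero => exact inferInstanceAs (Mono (kernel.ι (aug π)))
  | succ n => exact inferInstanceAs (Mono (kernel.ι (L.d (n + 1) n)))

theorem epi_ee (hπ : QuasiIso π) (n : ℕ) : Epi (ee π n) := by
  obtain ⟨h1, h2, h3⟩ := (Groth.Agent.Krr.H444.LFTrunc.quasiIso_iff π).1 hπ
  cases n with
  | zero => exact h2.epi_kernelLift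
  | succ n =>
    have h4 := (L.exactAt_iff' (n + 2) (n + 1) n (by simp) (by simp)).1 (h1 n)
    exact h4.epi_kernelLift

/-- The syzygies of a resolution. -/
noncomputable def syz (hπ : QuasiIso π) : Syz L.X (fun n => L.d (n + 1) n) Q where
  Z := zz π
  i := ii π
  e := ee π
  π := aug π
  fac := ee_ii π
  w0 := kernel.condition _
  ses0 := by
    have h3 := ((Groth.Agent.Krr.H444.LFTrunc.quasiIso_iff π).1 hπ).2.2
    have hm : Mono (ShortComplex.mk (ii π 0) (aug π) (kernel.condition _)).f := mono_ii π 0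
    have he : Epi (ShortComplex.mk (ii π 0) (aug π) (kernel.condition _)).g := h3
    exact ⟨ShortComplex.exact_of_f_is_kernel _ (kernelIsKernel (aug π))⟩
  ws n := by
    rw [← cancel_mono (ii π n), Category.assoc, ee_ii, zero_comp]
    exact kernel.condition _
  ses n := by
    have hw : ii π (n + 1) ≫ ee π n = 0 := by
      rw [← cancel_mono (ii π n), Category.assoc, ee_ii, zero_comp]
      exact kernel.condition _
    have hm : Mono (ShortComplex.mk (ii π (n + 1)) (ee π n) hw).f := mono_ii π (n + 1)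
    have he : Epi (ShortComplex.mk (ii π (n + 1)) (ee π n) hw).g := epi_ee π hπ n
    refine ⟨ShortComplex.exact_of_f_is_kernel _ ?_⟩
    exact KernelFork.IsLimit.ofι' _ _ fun {W} k hk => ⟨kernel.lift (L.d (n + 1) n) k (by
      have hk' : k ≫ ee π n = 0 := hk
      rw [← ee_ii π n, ← Category.assoc, hk', zero_comp]), kernel.lift_ι _ _ _⟩

end Res

end K370.TowerCoh

namespace K370.TowerCoh

open AlgebraicGeometry K370.Tower Groth.Agent.Krr.H444.LFTrunc

attribute [local instance] HasDerivedCategory.standard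

variable {W : Scheme.{u}} {L : ChainComplex W.Modules ℕ} {Q : W.Modules}
  (π : L ⟶ (ChainComplex.single₀ W.Modules).obj Q)

theorem isCoh_zz [IsLocallyNoetherian W] (hπ : QuasiIso π) (hL : ∀ n, Coh.IsCoh (L.X n)) (n : ℕ) :
    Coh.IsCoh (zz π n) := by
  cases n with
  | zero =>
    obtain ⟨h1, h2, h3⟩ := (Groth.Agent.Krr.H444.LFTrunc.quasiIso_iff π).1 hπ
    have hQ : Coh.IsCoh Q := Groth.Agent.PerfA.CohSerre.isCoh_of_iso
      (IsColimit.coconePointUniqueUpToIso (cokernelIsCokernel (L.d 1 0)) (h2.gIsCokernel))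
      (Groth.Agent.PerfA.CohSerre.isCoh_cokernel (L.d 1 0) (hL 1).1 (hL 0))
    exact Groth.Agent.PerfA.CohSerre.isCoh_kernel (aug π) (hL 0) hQ.1
  | succ n => exact Groth.Agent.PerfA.CohSerre.isCoh_kernel (L.d (n + 1) n) (hL (n + 1)) (hL n).1

/-- **N0d.** -/
theorem n0d (hπ : QuasiIso π)
    (T : Tower (fun n => DCoh.inD W (L.X n)) (fun n => (DerivedCategory.singleFunctor W.Modules 0).map (L.d (n + 1) n)))
    (n : ℕ) :
    ∃ (Z : W.Modules) (f : (DCoh.inD W Z)⟦(n : ℤ)⟧ ⟶ (T.Y n)⟦(n : ℤ)⟧) (g : (T.Y n)⟦(n : ℤ)⟧ ⟶ DCoh.inD W Q)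
      (h : DCoh.inD W Q ⟶ ((DCoh.inD W Z)⟦(n : ℤ)⟧)⟦(1 : ℤ)⟧),
      Triangle.mk f g h ∈ distTriang (DCoh.D W) ∧
        (IsLocallyNoetherian W → (∀ n, Coh.IsCoh (L.X n)) → Coh.IsCoh Z) := by
  obtain ⟨f, g, h, hT⟩ := exists_triangle (syz π hπ) T n
  exact ⟨zz π n, f, g, h, hT, fun _ hL => isCoh_zz π hπ hL n⟩

theorem nv_inD (M N : ℕ → W.Modules) : NV (fun n => DCoh.inD W (M n)) (fun n => DCoh.inD W (N n)) :=
  nv_of_homVan fun _ _ => homVan_single _ _

end K370.TowerCoh
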