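import Groth.Agent.DEquiv.K358.SuppHom
import Groth.Agent.DEquiv.K353.Calc
import Groth.Agent.Variety.K434.DevIrred
import Groth.Agent.Pic13.H561.AffCovAmp
import Groth.Agent.FormalB.PullCoh
import Groth.Agent.FormalA.Support
import Groth.Agent.Models2.TensLocal
import Groth.Agent.Ega3B.ProjFrame
import Groth.Agent.PerfA.GenPull
import Groth.Agent.Dual.H356.TensX
import Groth.Agent.Dual.H379.TensBound
import Groth.Agent.PerfB.H0Fibre
import Groth.Agent.DEquiv.K357.FieldDev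
import Groth.Agent.DEquiv.K352.Sky
import Groth.Agent.PerfB.StructFlat
import Groth.Agent.PerfA.CohSerre
import Groth.Agent.S1001

/-!
# Direct images of complexes supported over finitely many closed points of the other factor

* `isLE_push`: `q : Z ⟶ Y`, `M ∈ D_QCoh^{≤ a}(Z)` vanishing on an open `W'` such that `q⁻¹V ⊆ W ∪ W'` with `W` affine, for `V`
  in a basis of affine opens: then `Rq_* M ∈ D^{≤ a}`.
-/

set_option autoImplicit false

universe u

open CategoryTheory CategoryTheory.Limits AlgebraicGeometry Opposite TopologicalSpace MonoidalCategory Pretriangulated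

attribute [local instance] HasDerivedCategory.standard

open scoped Groth.Agent.Dcoh.MonCat Groth.Agent.Dcoh.ModD

namespace K370.ZeroDim

open Groth.Agent Groth.Agent.PerfA.ExtZero Groth.Agent.PerfA.Hyp0 Groth.Agent.PerfA.Hyp1 Groth.Agent.PerfA.Hyp2
  Groth.Agent.PerfA.HypPush Groth.Agent.PerfA Groth.Agent.LoccohB.VanOn

variable {X Y Z : Scheme.{u}}

/-- Direct images of complexes supported in a closed subset which is affine over the base in the sense of the
hypothesis `hcov`. -/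
theorem isLE_push (q : Z ⟶ Y) [DCoh.HasRpush q] (M : DCoh.D Z) (hM : DCoh.IsQCohD M) (a : ℤ) (ha : M.IsLE a)
    (W' : Z.Opens) (hW' : vanOn W' M)
    (hcov : ∀ V : Y.Opens, IsAffineOpen V → ∃ W : Z.Opens, IsAffineOpen W ∧ W ≤ q ⁻¹ᵁ V ∧ q ⁻¹ᵁ V ≤ W ⊔ W') :
    ((DCoh.Rpush q).obj M).IsLE a := by
  refine (DerivedCategory.isLE_iff _ _).2 fun m hm => ?_
  obtain ⟨L, hL, ⟨e⟩⟩ := LoccohB.RpushTri.exists_isKInjective_iso
    (LoccohB.RpushTri.hasKInj_modules Z) M
  refine IsZero.of_iso ?_ ((DerivedCategory.homologyFunctor Y.Modules m).mapIso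
    ((DCoh.Rpush q).mapIso e) ≪≫ HypPush2.HDRpushIso q L hL m)
  rw [← HomologicalComplex.exactAt_iff_isZero_homology]
  refine exactAt_pushC q L hL m fun V x hx => ?_
  obtain ⟨V', hV', hxV', hle⟩ := exists_isAffineOpen_mem_and_subset (U := V) hx
  refine ⟨V', hle, hxV', ?_⟩
  obtain ⟨W, hW, hWV, hc⟩ := hcov V' hV'
  have hsup : q ⁻¹ᵁ V' = W ⊔ (W' ⊓ q ⁻¹ᵁ V') := by
    apply le_antisymm
    · intro x hx
      rcases hc hx with h | h
      · exact Or.inl h
      · exact Or.inr ⟨h, hx⟩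
    · exact sup_le hWV inf_le_right
  have key : ∀ φ : P m (W ⊔ (W' ⊓ q ⁻¹ᵁ V')) ⟶ M, φ = 0 := fun φ => by
    obtain ⟨ψ, hψ⟩ := mv_exists_δ (n := m - 1) (by lia) φ
      ((HypAffine.toHD_bijective M hM W hW m).1 (by
        have h3 : Subsingleton Γ(DCoh.HD M m, W) :=
          CohqB.DevSupport.subsingleton_sections_of_support _ W fun x _ => by
            rw [CohqB.DevSupport.support_eq_empty_of_isZero (DerivedCategory.isZero_of_isLE M a m (by lia))]
            exact fun h' => h'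
        exact Subsingleton.elim _ _))
      (K358.SuppHom.hom_eq_zero_of_vanOn _ _ (vanOn_mono inf_le_left hW') _ _)
    rw [hψ, K358.SuppHom.hom_eq_zero_of_vanOn _ _ (vanOn_mono (inf_le_right.trans inf_le_left) hW') _ ψ,
      comp_zero]
  rw [hsup]
  intro φ
  rw [← cancel_mono e.inv, key (φ ≫ e.inv), zero_comp]

theorem isTriang_tensorRight (A : DCoh.D X) : PerfC.IsoLocus.IsTriang (tensorRight A) := by
  obtain ⟨e⟩ := Dcoh.PerfDual.nonempty_flipIso A
  exact (PerfC.DTens.isTriang_LTX_flip_obj A).of_iso e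

/-- `Lp^* A` vanishes on the preimage of an open on which `A` vanishes. -/
theorem vanOn_lpull (p : Z ⟶ X) [DCoh.HasLpull p] (U : X.Opens) (A : DCoh.D X) (h : vanOn U A) :
    vanOn (p ⁻¹ᵁ U) ((DCoh.Lpull p).obj A) := by
  have := K353.Calc.hasLpull (p ∣_ U)
  have e := Dcoh.DerPull.lpullRestrictIso (f := p) (f' := p ∣_ U) (j' := (p ⁻¹ᵁ U).ι) (j := U.ι)
    (morphismRestrict_ι p U).symm
  have := (PerfC.ProjAbs291.isTriang_Lpull (p ∣_ U)).additive
  exact ((DCoh.Lpull (p ∣_ U)).map_isZero h).of_iso (e.app A)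

/-- `A ⊗ Q` vanishes where `A` does. -/
theorem vanOn_tensor (W : Z.Opens) (A Q : DCoh.D Z) (h : vanOn W A) : vanOn W (A ⊗ Q) := by
  have := K353.Calc.hasLpull W.ι
  obtain ⟨e⟩ := K353.Calc.lpull_tensor W.ι Q
  have h1 : IsZero ((DCoh.Lpull W.ι).obj A) := IsZero.of_iso h ((Dcoh.DerPull.lpullOpenIso W.ι).app A)
  have := (isTriang_tensorRight ((DCoh.Lpull W.ι).obj Q)).additive
  exact ((tensorRight ((DCoh.Lpull W.ι).obj Q)).map_isZero h1).of_iso
    ((Dcoh.DerPull.lpullOpenIso W.ι).symm.app (A ⊗ Q) ≪≫ e.app A)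

theorem vanOn_inD (T : X.Modules) (U : X.Opens) (h : Disjoint (CohB1.support T) (U : Set X)) :
    vanOn U (DCoh.inD X T) := by
  rw [vanOn_iff]
  intro i
  apply CohqB.DevSupport.isZero_of_support_eq_empty
  rw [PerfC.Supp.support_restrict, Set.preimage_eq_empty_iff, Scheme.Opens.range_ι]
  exact h.mono_left (K358.SuppHom.supp_single_subset T 0 i)

/-- Dévissage to modules supported at one closed point. -/
theorem devissage_pt [IsNoetherian X] (Φ : DCoh.D X ⥤ DCoh.D Y) (hΦ : PerfC.IsoLocus.IsTriang Φ) (a : ℤ)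
    (hpt : ∀ (G : X.Modules) (ξ : X), Coh.IsCoh G → IsClosed ({ξ} : Set X) → CohB1.support G = {ξ} →
      (Φ.obj (DCoh.inD X G)).IsLE a)
    (T : X.Modules) (hT : Coh.IsCoh T) (hcl : ∀ x ∈ CohB1.support T, IsClosed ({x} : Set X)) :
    (Φ.obj (DCoh.inD X T)).IsLE a := by
  obtain ⟨_, _⟩ := hΦ
  refine K434.DevIrred.devissage_gen (fun A => ∀ x ∈ A, IsClosed ({x} : Set X))
    (fun A B hAB hB x hx => hB x (hAB hx))
    (fun T => (Φ.obj (DCoh.inD X T)).IsLE a) ?_ ?_ ?_ ?_ T hT hcl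
  · rintro M N ⟨e⟩ h
    exact DerivedCategory.TStructure.t.isLE_of_iso
      (Φ.mapIso ((DerivedCategory.singleFunctor X.Modules 0).mapIso e)) a
  · intro M hM
    exact DerivedCategory.TStructure.t.isLE_of_isZero
      (Φ.map_isZero ((DerivedCategory.singleFunctor X.Modules 0).map_isZero hM)) a
  · intro S hS c1 c2 c3 h1 h3
    have h := Φ.map_distinguished _ (hS.singleTriangle_distinguished)
    exact DerivedCategory.TStructure.t.isLE₂ _ h a h1 h3
  · intro G ξ hG hsupp hG'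
    have hξ : IsClosed ({ξ} : Set X) := hG' ξ (hsupp ▸ subset_closure rfl)
    exact hpt G ξ hG hξ (by rw [hsupp, hξ.closure_eq])

/-- **`Rq_*(Lp^* T ⊗ Q) ∈ D^{≤ a}` for `T` coherent with support consisting of closed points** and
`Q ∈ D_QCoh^{≤ a}`. -/
theorem isLE_fm [IsNoetherian X] (p : Z ⟶ X) (q : Z ⟶ Y) [DCoh.HasLpull p] [DCoh.HasRpush q]
    (haff : ∀ (U : X.Opens) (V : Y.Opens), IsAffineOpen U → IsAffineOpen V → IsAffineOpen (p ⁻¹ᵁ U ⊓ q ⁻¹ᵁ V))
    (T : X.Modules) (hT : Coh.IsCoh T) (hcl : ∀ x ∈ CohB1.support T, IsClosed ({x} : Set X))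
    (Q : DCoh.D Z) (hQ : DCoh.IsQCohD Q) (a : ℤ) (hQa : Q.IsLE a) :
    ((DCoh.Rpush q).obj ((DCoh.Lpull p).obj (DCoh.inD X T) ⊗ Q)).IsLE a := by
  let Φ : DCoh.D X ⥤ DCoh.D Y := DCoh.Lpull p ⋙ tensorRight Q ⋙ DCoh.Rpush q
  refine devissage_pt Φ ((PerfC.ProjAbs291.isTriang_Lpull p).comp
    ((isTriang_tensorRight Q).comp (PerfC.ProjAbs291.isTriang_Rpush q))) a
    (fun G ξ hG hξ hsupp => ?_) T hT hcl
  obtain ⟨U, hU, hξU, -⟩ := exists_isAffineOpen_mem_and_subset (x := ξ) (U := (⊤ : X.Opens)) trivial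
  let W₀ : X.Opens := ⟨{ξ}ᶜ, hξ.isOpen_compl⟩
  have hq : DCoh.IsQCohD ((DCoh.Lpull p).obj (DCoh.inD X G) ⊗ Q) :=
    K353.Calc.qc_tensor _ _ (K353.Calc.qc_lpull p _ (QCohD.isQCohD_inD _ hG.1)) hQ
  have h1 : ((DCoh.Lpull p).obj (DCoh.inD X G)).IsLE 0 :=
    Dual.H356.TensX.isLE_lpull p _ 0 (inferInstanceAs
      (((DerivedCategory.singleFunctor X.Modules 0).obj G).IsLE 0))
  have h2 : ((DCoh.Lpull p).obj (DCoh.inD X G) ⊗ Q).IsLE a := by
    have := Dual.H379.TensBound.isLE_tensor ((DCoh.Lpull p).obj (DCoh.inD X G)) Q 0 a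
    rwa [zero_add] at this
  have h3 : vanOn (p ⁻¹ᵁ W₀) ((DCoh.Lpull p).obj (DCoh.inD X G) ⊗ Q) := by
    refine vanOn_tensor _ _ _ (vanOn_lpull p W₀ _ (vanOn_inD G W₀ ?_))
    rw [hsupp]
    exact disjoint_compl_right
  refine isLE_push q _ hq a h2 (p ⁻¹ᵁ W₀) h3 fun V hV => ⟨p ⁻¹ᵁ U ⊓ q ⁻¹ᵁ V, haff U V hU hV, inf_le_right, ?_⟩
  intro z hz
  by_cases hz' : p z = ξ
  · exact Or.inl ⟨by change p z ∈ U; rw [hz']; exact hξU, hz⟩
  · exact Or.inr hz'

/-- `Rf_* T ∈ D^{≤ 0}` for `T` coherent with support consisting of closed points. -/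
theorem isLE_push_inD [IsNoetherian X] [IsAffine Y] (f : X ⟶ Y) [IsSeparated f] [DCoh.HasRpush f]
    (T : X.Modules) (hT : Coh.IsCoh T) (hcl : ∀ x ∈ CohB1.support T, IsClosed ({x} : Set X)) :
    ((DCoh.Rpush f).obj (DCoh.inD X T)).IsLE 0 := by
  refine devissage_pt (DCoh.Rpush f) (PerfC.ProjAbs291.isTriang_Rpush f) 0
    (fun G ξ hG hξ hsupp => ?_) T hT hcl
  obtain ⟨U, hU, hξU, -⟩ := exists_isAffineOpen_mem_and_subset (x := ξ) (U := (⊤ : X.Opens)) trivial
  let W₀ : X.Opens := ⟨{ξ}ᶜ, hξ.isOpen_compl⟩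
  refine isLE_push f _ (QCohD.isQCohD_inD _ hG.1) 0 (inferInstanceAs
      (((DerivedCategory.singleFunctor X.Modules 0).obj G).IsLE 0)) W₀ (vanOn_inD G W₀ ?_)
    fun V hV => ⟨U ⊓ f ⁻¹ᵁ V, ?_, inf_le_right, ?_⟩
  · rw [hsupp]
    exact disjoint_compl_right
  · exact HypPush2.isAffineOpen_inf_preimage f (isAffineOpen_top Y) hV le_top hU le_top
  · intro z hz
    by_cases hz' : z = ξ
    · exact Or.inl ⟨by rw [hz']; exact hξU, hz⟩
    · exact Or.inr hz'

/-- **N5** over a field. -/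
theorem isLE_fm_field (k : Type u) [Field k] [X.Over (Spec (CommRingCat.of k))] [Y.Over (Spec (CommRingCat.of k))]
    [IsProper (X ↘ Spec (CommRingCat.of k))]
    [DCoh.HasLpull (pullback.fst (X ↘ Spec (CommRingCat.of k)) (Y ↘ Spec (CommRingCat.of k)))]
    [DCoh.HasRpush (pullback.snd (X ↘ Spec (CommRingCat.of k)) (Y ↘ Spec (CommRingCat.of k)))]
    (T : X.Modules) (hT : Coh.IsCoh T) (hcl : ∀ x ∈ CohB1.support T, IsClosed ({x} : Set X))
    (Q : DCoh.D (pullback (X ↘ Spec (CommRingCat.of k)) (Y ↘ Spec (CommRingCat.of k)))) (hQ : DCoh.IsQCohD Q)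
    (a : ℤ) (hQa : Q.IsLE a) :
    ((DCoh.Rpush (pullback.snd (X ↘ Spec (CommRingCat.of k)) (Y ↘ Spec (CommRingCat.of k)))).obj
      ((DCoh.Lpull (pullback.fst (X ↘ Spec (CommRingCat.of k)) (Y ↘ Spec (CommRingCat.of k)))).obj
        (DCoh.inD X T) ⊗ Q)).IsLE a := by
  have : IsNoetherian X := K352.Sky.isNoetherian k X
  exact isLE_fm _ _ (fun U V hU hV => Ega3B.ProjFrame.isAffineOpen_fst_inf_snd _ _ hU hV) T hT hcl Q hQ a hQa

theorem additive_tilde (R : CommRingCat.{u}) : (tilde.functor R).Additive := inferInstance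

/-- Coherent modules over a field are finite sums of copies of the structure sheaf. -/
theorem exists_split_coh {k : Type u} [Field k] (M : (Spec (CommRingCat.of k)).Modules) (hM : Coh.IsCoh M) :
    ∃ (n : ℕ) (ι : Fin n → (Coh.structureModule (Spec (CommRingCat.of k)) ⟶ M))
      (π : Fin n → (M ⟶ Coh.structureModule (Spec (CommRingCat.of k)))),
      (∀ i j, ι i ≫ π j = if i = j then 𝟙 _ else 0) ∧ ∑ i, π i ≫ ι i = 𝟙 M := by
  obtain ⟨V, hV, ⟨e⟩⟩ := K357.FieldDev.exists_tilde M hM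
  let F := tilde.functor (CommRingCat.of k)
  let u : F.obj (ModuleCat.of k k) ≅ Coh.structureModule (Spec (CommRingCat.of k)) :=
    tildeSelf (R := CommRingCat.of k)
  have hF : F.Additive := additive_tilde (CommRingCat.of k)
  have hfree : Module.Free k V := Module.Free.of_divisionRing k V
  have hfin : Module.Finite k V := hV
  let b : Module.Basis (Fin (Module.finrank k V)) k V := Module.finBasis k V
  let s (i : Fin (Module.finrank k V)) : ModuleCat.of k k ⟶ V := ModuleCat.ofHom (LinearMap.toSpanSingleton k V (b i))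
  let r (i : Fin (Module.finrank k V)) : V ⟶ ModuleCat.of k k := ModuleCat.ofHom (b.coord i)
  have h1 : ∀ i j, s i ≫ r j = if i = j then 𝟙 _ else 0 := by
    intro i j
    ext
    change b.coord j ((1 : k) • b i) = _
    rw [one_smul, Module.Basis.coord_apply, b.repr_self, Finsupp.single_apply]
    split_ifs <;> rfl
  have h2 : ∑ i, r i ≫ s i = 𝟙 V := by
    ext v
    rw [ModuleCat.hom_sum, LinearMap.sum_apply]
    exact b.sum_repr v
  refine ⟨_, fun i => u.inv ≫ F.map (s i) ≫ e.hom, fun i => e.inv ≫ F.map (r i) ≫ u.hom, fun i j => ?_, ?_⟩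
  · simp only [Category.assoc, e.hom_inv_id_assoc]
    rw [← F.map_comp_assoc, h1]
    split_ifs
    · rw [F.map_id, Category.id_comp, u.inv_hom_id]
    · rw [F.map_zero, zero_comp, comp_zero]
  · simp only [Category.assoc, u.hom_inv_id_assoc]
    have h3 : ∀ i, F.map (r i) ≫ F.map (s i) ≫ e.hom = F.map (r i ≫ s i) ≫ e.hom := fun i => by
      rw [F.map_comp_assoc]
    simp only [h3]
    rw [← Preadditive.comp_sum, ← Preadditive.sum_comp, ← F.map_sum, h2, F.map_id, Category.id_comp, e.inv_hom_id]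

/-- **N5'**: `RΓ` of a coherent module with zero-dimensional support is a finite sum of copies of `k`. -/
theorem exists_split_push (k : Type u) [Field k] [X.Over (Spec (CommRingCat.of k))]
    [IsProper (X ↘ Spec (CommRingCat.of k))] [DCoh.HasRpush (X ↘ Spec (CommRingCat.of k))]
    (T : X.Modules) (hT : Coh.IsCoh T) (hcl : ∀ x ∈ CohB1.support T, IsClosed ({x} : Set X)) :
    ∃ (n : ℕ) (ι : Fin n → (DCoh.inD _ (Coh.structureModule (Spec (CommRingCat.of k))) ⟶
        (DCoh.Rpush (X ↘ Spec (CommRingCat.of k))).obj (DCoh.inD X T)))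
      (π : Fin n → ((DCoh.Rpush (X ↘ Spec (CommRingCat.of k))).obj (DCoh.inD X T) ⟶
        DCoh.inD _ (Coh.structureModule (Spec (CommRingCat.of k))))),
      (∀ i j, ι i ≫ π j = if i = j then 𝟙 _ else 0) ∧ ∑ i, π i ≫ ι i = 𝟙 _ := by
  have : IsNoetherian X := K352.Sky.isNoetherian k X
  have h1 := isLE_push_inD (X ↘ Spec (CommRingCat.of k)) T hT hcl
  have h2 : ((DCoh.Rpush (X ↘ Spec (CommRingCat.of k))).obj (DCoh.inD X T)).IsGE 0 := PerfB.H0Fibre.isGE_Rpush_inD _ _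
  obtain ⟨M, ⟨e⟩⟩ := DerivedCategory.exists_iso_singleFunctor_obj_of_isGE_of_isLE
    ((DCoh.Rpush (X ↘ Spec (CommRingCat.of k))).obj (DCoh.inD X T)) 0
  have hcoh := QCohD.isCohD_inD T hT
  have hge : (DCoh.inD X T).IsGE 0 := inferInstanceAs (((DerivedCategory.singleFunctor X.Modules 0).obj T).IsGE 0)
  have hle : (DCoh.inD X T).IsLE 0 := inferInstanceAs (((DerivedCategory.singleFunctor X.Modules 0).obj T).IsLE 0)
  have hM : Coh.IsCoh M := PerfA.CohSerre.isCoh_of_iso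
    (((DerivedCategory.homologyFunctor _ 0).mapIso e) ≪≫ (DerivedCategory.singleFunctorCompHomologyFunctorIso _ 0).app M)
    ((S1001.result (X ↘ Spec (CommRingCat.of k)) (DCoh.inD X T) 0 0 hcoh (fun i =>
      PerfB.StructFlat.isProperOver_of_isProper _ _
        (FormalA.Support.isClosed_support _ (hcoh i).2))).1 0)
  obtain ⟨n, ι, π, h3, h4⟩ := exists_split_coh M hM
  refine ⟨n, fun i => (DerivedCategory.singleFunctor _ 0).map (ι i) ≫ e.inv,
    fun i => e.hom ≫ (DerivedCategory.singleFunctor _ 0).map (π i), fun i j => ?_, ?_⟩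
  · rw [Category.assoc, e.inv_hom_id_assoc, ← Functor.map_comp, h3]
    split_ifs
    · exact CategoryTheory.Functor.map_id _ _
    · exact Functor.map_zero _ _ _
  · simp only [Category.assoc]
    have h3 : ∀ i, (DerivedCategory.singleFunctor _ 0).map (π i) ≫ (DerivedCategory.singleFunctor _ 0).map (ι i) ≫ e.inv
        = (DerivedCategory.singleFunctor _ 0).map (π i ≫ ι i) ≫ e.inv := fun i => by
      rw [Functor.map_comp_assoc]
    simp only [h3]
    rw [← Preadditive.comp_sum, ← Preadditive.sum_comp, ← Functor.map_sum, h4, CategoryTheory.Functor.map_id,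
      Category.id_comp, e.hom_inv_id]

end K370.ZeroDim
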