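import Groth.Agent.DEquiv.K370.SplitIso
import Groth.Agent.DEquiv.K160.SibSch
import Groth.Agent.Divis.StalkMod
import Groth.Agent.PerfA.FlfExt
import Groth.Agent.S0558
import Mathlib.AlgebraicGeometry.Artinian

/-!
# Isolated closed points

* `VI X`, `UI X`: the open subscheme of isolated closed points of a Noetherian scheme and its complement;
* `isSum_of_bdd`: in a t-category with heart data in which there are no maps from the heart to negative bounded objects every
  bounded object is a finite sum of shifts of objects of the heart;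
* `isSum`: this applies to a discrete regular Noetherian scheme.
-/

set_option autoImplicit false

universe u v v' u'

open CategoryTheory CategoryTheory.Limits AlgebraicGeometry Pretriangulated CategoryTheory.Triangulated

namespace K370.IsoPts

section Heart

variable {A : Type u} [Category.{v} A] [Abelian A]
  {C : Type u'} [Category.{v'} C] [Preadditive C] [HasZeroObject C] [HasShift C ℤ]
  [∀ n : ℤ, (shiftFunctor C n).Additive] [Pretriangulated C]
  {t : TStructure C} {ι : A ⥤ C} (h : K350.HD.HeartData t ι)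
  (h0 : ∀ (M : A) (Z : C) (a : ℤ), t.IsGE Z a → t.IsLE Z (-1) → ∀ f : ι.obj M ⟶ Z, f = 0)

include h h0 in
theorem isSum_of_bdd (X : C) (a b : ℤ) (ha : t.IsGE X a) (hb : t.IsLE X b) :
    SplitIso.IsSum (fun Z => ∃ (M : A) (m : ℤ), Nonempty ((ι.obj M)⟦m⟧ ≅ Z)) X := by
  suffices H : ∀ (n : ℕ) (X : C) (b : ℤ), t.IsLE X b → t.IsGE X (b - n + 1) →
      SplitIso.IsSum (fun Z => ∃ (M : A) (m : ℤ), Nonempty ((ι.obj M)⟦m⟧ ≅ Z)) X by
    have := Int.self_le_toNat (b - a + 1)
    exact H (b - a + 1).toNat X b hb (t.isGE_of_ge X (b - (b - a + 1).toNat + 1) a (by omega))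
  intro n
  induction n with
  | zero =>
    intro X b hb ha
    refine SplitIso.IsSum.of_isZero _ fun f g => ?_
    exact (t.isZero X b (b - (0:ℕ) + 1) (by simp)).eq_of_src _ _
  | succ n ih =>
    intro X b hb ha
    obtain ⟨Z, W, hZ, hW, i, p, δ, hT⟩ := t.exists_triangle X (b - 1) b (by omega)
    have hZ' : t.IsLE Z (b - 1) := ⟨hZ⟩
    have hW' : t.IsGE W b := ⟨hW⟩
    have hWb : t.IsLE W b := by
      refine t.isLE₂ _ (rot_of_distTriang _ hT) b hb ?_
      have h2 : t.IsLE (Z⟦(1:ℤ)⟧) (b - 2) := t.isLE_shift Z (b - 1) 1 (b - 2) (by omega)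
      exact t.isLE_of_le (Z⟦(1:ℤ)⟧) (b - 2) b (by omega)
    have hZa : t.IsGE Z (b - 1 - n + 1) := by
      refine t.isGE₂ _ (inv_rot_of_distTriang _ hT) _ ?_ ?_
      · have h2 : t.IsGE (W⟦(-1:ℤ)⟧) (b + 1) := t.isGE_shift W b (-1) (b + 1) (by omega)
        exact t.isGE_of_ge (W⟦(-1:ℤ)⟧) (b - 1 - n + 1) (b + 1) (by omega)
      · exact t.isGE_of_ge X (b - 1 - n + 1) (b - (n + 1 : ℕ) + 1) (by push_cast; omega)
    obtain ⟨M, ⟨e⟩⟩ := h.exists_iso W b (-b) (by omega) hWb hW'
    have hδ : δ = 0 := by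
      rw [← cancel_epi e.hom, comp_zero]
      have h1 : t.IsLE ((Z⟦(1:ℤ)⟧)⟦b⟧) (-1) := by
        have h2 : t.IsLE (Z⟦(1:ℤ)⟧) (b - 2) := t.isLE_shift Z (b - 1) 1 (b - 2) (by omega)
        have h3 : t.IsLE ((Z⟦(1:ℤ)⟧)⟦b⟧) (-2) := t.isLE_shift (Z⟦(1:ℤ)⟧) (b - 2) b (-2) (by omega)
        exact t.isLE_of_le _ (-2) (-1) (by omega)
      have h1' : t.IsGE ((Z⟦(1:ℤ)⟧)⟦b⟧) (b - 1 - n + 1 - 1 - b) := by
        have h2 : t.IsGE (Z⟦(1:ℤ)⟧) (b - 1 - n + 1 - 1) := t.isGE_shift Z (b - 1 - n + 1) 1 (b - 1 - n + 1 - 1) (by omega)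
        exact t.isGE_shift (Z⟦(1:ℤ)⟧) (b - 1 - n + 1 - 1) b _ (by omega)
      apply (shiftFunctor C b).map_injective
      rw [Functor.map_zero, ← cancel_epi ((shiftFunctorCompIsoId C (-b) b (by omega)).inv.app (ι.obj M)), comp_zero]
      exact h0 M _ _ h1' h1 _
    subst hδ
    obtain ⟨s, hs⟩ : ∃ s : W ⟶ X, 𝟙 W = s ≫ p := Triangle.coyoneda_exact₃ _ hT (𝟙 W) comp_zero
    obtain ⟨r, hr⟩ : ∃ r : X ⟶ Z, 𝟙 X - p ≫ s = r ≫ i := Triangle.coyoneda_exact₂ _ hT (𝟙 X - p ≫ s) (by
      change (𝟙 X - p ≫ s) ≫ p = 0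
      rw [Preadditive.sub_comp, Category.id_comp, Category.assoc, ← hs, Category.comp_id, sub_self])
    refine SplitIso.IsSum.of_retracts _ (ih Z (b - 1) hZ' hZa) (SplitIso.IsSum.of_mem _ ⟨M, -b, ⟨e⟩⟩) i r s p ?_
    rw [← hr]
    abel

end Heart

attribute [local instance] HasDerivedCategory.standard

open Groth.Agent

section Discrete

variable {V : Scheme.{u}} [IsNoetherian V] [DiscreteTopology V] (hreg : Models.IsRegularScheme V)

include hreg in
/-- The local rings of a discrete regular Noetherian scheme are fields. -/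
theorem isField_stalk (x : V) : IsField (V.presheaf.stalk x) := by
  have : IsLocallyArtinian V := .of_isLocallyNoetherian_of_discreteTopology
  obtain ⟨U, hU, hxU, -⟩ := exists_isAffineOpen_mem_and_subset (X := V) (x := x) (U := ⊤) trivial
  have h1 : IsArtinianRing Γ(V, U) := IsLocallyArtinian.isArtinianRing_presheaf_obj ⟨U, hU⟩
  letI := V.presheaf.algebra_section_stalk ⟨x, hxU⟩
  have h2 := hU.isLocalization_stalk ⟨x, hxU⟩
  have h3 : IsArtinianRing (V.presheaf.stalk x) :=
    IsArtinianRing.localization_artinian (hU.primeIdealOf ⟨x, hxU⟩).asIdeal.primeCompl _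
  have := hreg x
  have h4 := S0558.result (V.presheaf.stalk x)
  exact IsArtinianRing.isField_of_isDomain _

include hreg in
/-- On a discrete regular Noetherian scheme coherent modules are finite locally free. -/
theorem isFinLocFree {M : V.Modules} (hM : Coh.IsCoh M) : FlatMod.IsFinLocFree M := by
  refine Divis.StalkMod.isFinLocFree_of_free_stalk hM fun x => ?_
  letI := (isField_stalk hreg x).toField
  infer_instance

include hreg in
/-- On a discrete regular Noetherian scheme every perfect complex is a sum of shifts of coherent modules. -/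
theorem isSum [(SGA6.perfP V).IsTriangulated] (X : (SGA6.perfP V).FullSubcategory) :
    SplitIso.IsSum (fun Z => ∃ (M : K160.CohHeart.CohX V) (m : ℤ),
      Nonempty (((K160.HeartAbs.inC (K160.CohHeart.perf_iff V hreg)).obj M)⟦m⟧ ≅ Z)) X := by
  have hP := K160.CohHeart.perf_iff V hreg
  obtain ⟨a, b, ha, hb⟩ := K160.HeartAbs.bounded hP X
  refine isSum_of_bdd (K160.CohHeart.heartData hP) (fun M Z a ha hb f => ?_) X a b ha hb
  rw [K160.HeartAbs.tS_isGE_iff] at ha
  rw [K160.HeartAbs.tS_isLE_iff] at hb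
  have hZ : DCoh.IsQCohD Z.obj := PerfA.QCohD.isQCohD_of_isCohD ((hP Z.obj).1 Z.property).1
  have : IsAffine V := by
    have : Finite V := finite_of_compact_of_discrete
    infer_instance
  exact ObjectProperty.hom_ext _ (PerfA.FlfExt.hom_flf_eq_zero M.obj (isFinLocFree hreg M.property) Z.obj hZ a f.hom)

end Discrete

section Top

variable (X : Scheme.{u})

/-- The isolated closed points. -/
def VI : X.Opens where
  carrier := {x | IsClosed ({x} : Set X) ∧ IsOpen ({x} : Set X)}
  is_open' := by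
    rw [isOpen_iff_forall_mem_open]
    rintro x ⟨h1, h2⟩
    refine ⟨{x}, ?_, h2, rfl⟩
    rintro _ rfl
    exact ⟨h1, h2⟩

lemma mem_VI (x : X) : x ∈ VI X ↔ IsClosed ({x} : Set X) ∧ IsOpen ({x} : Set X) := Iff.rfl

instance discreteTopology_VI : DiscreteTopology (VI X : Scheme.{u}) := by
  rw [discreteTopology_iff_isOpen_singleton]
  intro x
  have h1 : IsOpen ({x.1} : Set X) := x.2.2
  have h2 : ({x} : Set (VI X : Scheme.{u})) = Subtype.val ⁻¹' {x.1} := by
    ext y
    exact ⟨fun h => by rw [Set.mem_singleton_iff] at h; rw [h]; rfl, fun h => Subtype.ext h⟩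
  rw [h2]
  exact h1.preimage continuous_subtype_val

variable [IsNoetherian X]

instance isNoetherian_opens (U : X.Opens) : IsNoetherian (U : Scheme.{u}) :=
  have := isCompact_iff_compactSpace.mp (TopologicalSpace.NoetherianSpace.isCompact (U : Set X))
  { toCompactSpace := this }

lemma isClosed_VI : IsClosed (VI X : Set X) := by
  have h0 : IsNoetherian (VI X : Scheme.{u}) := isNoetherian_opens X (VI X)
  have h2 : Finite (VI X : Scheme.{u}) := finite_of_compact_of_discrete
  have h3 : (VI X : Set X).Finite := h2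
  have h4 : (VI X : Set X) = ⋃ x ∈ (VI X : Set X), {x} := (Set.biUnion_of_singleton _).symm
  rw [h4]
  exact h3.isClosed_biUnion fun x hx => hx.1

/-- The complement of the isolated closed points. -/
def UI : X.Opens := ⟨(VI X : Set X)ᶜ, (isClosed_VI X).isOpen_compl⟩

lemma mem_UI (x : X) : x ∈ UI X ↔ x ∉ VI X := Iff.rfl

lemma UI_sup_VI : UI X ⊔ VI X = ⊤ := by
  ext x
  simp only [TopologicalSpace.Opens.coe_sup, Set.mem_union, SetLike.mem_coe, mem_UI, TopologicalSpace.Opens.coe_top,
    Set.mem_univ, iff_true]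
  exact (em _).symm

lemma UI_inf_VI : UI X ⊓ VI X = ⊥ := by
  ext x
  simp only [TopologicalSpace.Opens.coe_inf, Set.mem_inter_iff, SetLike.mem_coe, mem_UI, TopologicalSpace.Opens.coe_bot,
    Set.mem_empty_iff_false, iff_false]
  exact fun h => h.1 h.2

instance : IsClosedImmersion (VI X).ι := .of_isPreimmersion _ (by rw [Scheme.Opens.range_ι]; exact isClosed_VI X)

instance : IsClosedImmersion (UI X).ι := .of_isPreimmersion _ (by
  rw [Scheme.Opens.range_ι]
  have : (UI X : Set X) = (VI X : Set X)ᶜ := rfl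
  rw [this]
  exact (VI X).isOpen.isClosed_compl)

/-- `UI X` has no isolated closed points. -/
lemma not_isOpen_UI (x : (UI X : Scheme.{u})) (hx : IsClosed ({x} : Set (UI X : Scheme.{u}))) :
    ¬ IsOpen ({x} : Set (UI X : Scheme.{u})) := by
  intro ho
  refine x.2 ⟨?_, ?_⟩
  · have h1 := ((UI X).ι.isClosedEmbedding).isClosedMap _ hx
    rwa [Set.image_singleton] at h1
  · have h1 := ((UI X).ι.isOpenEmbedding).isOpenMap _ ho
    rwa [Set.image_singleton] at h1

end Top

end K370.IsoPts
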