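import Groth.Agent.DEquiv.K370.SplitIso
import Groth.Agent.DEquiv.K160.SibSch
import Groth.Agent.LoccohB.SuppInd
import Groth.Agent.PerfA.PerfLocal
import Groth.Agent.PerfC.LpullFlat
import Groth.Agent.PerfC.ProjAbs291
import Groth.Agent.S0019
import Groth.Agent.S0887
import Groth.Agent.Sga67.ClosedPush

/-!
# Perfect complexes on a disjoint union of two open subschemes

`U`, `V` opens of `X` with `U ⊔ V = ⊤` and `U ⊓ V = ⊥`.

* `J U V : D_perf(U) ⥤ D_perf(X)`, the direct image; it is fully faithful and triangulated;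
* `exists_split`: every perfect object of `D(X)` is the sum of objects coming from `U` and `V`, without maps between them;
* `natJ`: restriction of a natural isomorphism on coherent modules to `U`;
* `glue`: `F ≅ Φ` on `D_perf(X)` if this holds after composition with `J U V` and `J V U`.
-/

set_option autoImplicit false

universe u v w

open CategoryTheory CategoryTheory.Limits AlgebraicGeometry Pretriangulated

attribute [local instance] HasDerivedCategory.standard

namespace K370.OpenClosed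

open Groth.Agent Groth.Agent.LoccohB.VanOn Groth.Agent.LoccohB.SuppInd Groth.Agent.PerfA.Restrict

variable {X : Scheme.{u}}

/-- A `U`-local object is the derived direct image of its restriction. -/
theorem isIso_η_of_isLoc (U : X.Opens) [DCoh.HasRpush U.ι] {K : DCoh.D X} (hK : IsLoc U K) :
    IsIso (η U K) := by
  obtain ⟨E, β, γ, hT⟩ := distinguished_cocone_triangle (η U K)
  have h1 : vanOn U E := vanOn_cone U β γ hT
  have h2 : IsLoc U E := isLoc_ext₁ _ (rot_of_distTriang _ (rot_of_distTriang _ hT)) (hK.shift 1)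
    ((isLoc_Rpush U _).shift 1)
  have h3 : IsZero E := (IsZero.iff_id_eq_zero E).2 (h2 E h1 (𝟙 E))
  exact (Triangle.isZero₃_iff_isIso₁ _ hT).1 h3

theorem isLoc_top (K : DCoh.D X) : IsLoc ⊤ K := fun _ hN _ => (isZero_of_vanOn_top hN).eq_of_src _ _

/-- Perfect objects form a triangulated subcategory. -/
theorem isTriangulated_perfP (X : Scheme.{u}) : (SGA6.perfP X).IsTriangulated := by
  have h1 : (SGA6.perfP X).IsClosedUnderIsomorphisms := ⟨fun e h => PerfA.PerfLocal.isPerfect_of_iso e h⟩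
  have h2 : (SGA6.perfP X).ContainsZero := ⟨⟨_, isZero_zero _, PerfA.PerfLocal.isPerfect_of_isZero (isZero_zero _)⟩⟩
  have h3 : (SGA6.perfP X).IsStableUnderShift ℤ :=
    { isStableUnderShiftBy := fun n => { le_shift := fun _ hK => PerfA.PerfLocal.isPerfect_shift hK n } }
  have h4 : (SGA6.perfP X).IsTriangulatedClosed₂ := .mk' (fun T hT h₁ h₃ => (S0887.result T hT).2.1 h₁ h₃)
  exact {}

variable (U V : X.Opens) (hUV : U ⊔ V = ⊤) (hdis : U ⊓ V = ⊥)

include hdis in
theorem vanOn_rpush [DCoh.HasRpush U.ι] (E : DCoh.D U) : vanOn V ((DCoh.Rpush U.ι).obj E) := by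
  apply vanOn_Rpush
  have : U.ι ⁻¹ᵁ V = ⊥ := by
    ext x
    simp only [TopologicalSpace.Opens.coe_bot, Set.mem_empty_iff_false, iff_false]
    intro hx
    have h1 : U.ι x ∈ U ⊓ V := ⟨x.2, hx⟩
    rw [hdis] at h1
    exact h1
  rw [this]
  exact vanOn_bot E

include hUV hdis in
/-- The direct image of a perfect object is perfect. -/
theorem isPerfect_rpush [DCoh.HasRpush U.ι] (E : DCoh.D U) (hE : DCoh.IsPerfect E) :
    DCoh.IsPerfect ((DCoh.Rpush U.ι).obj E) := by
  refine PerfA.PerfLocal.isPerfect_of_restrictD_opens _ fun x => ?_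
  have hx : x ∈ U ⊔ V := by rw [hUV]; trivial
  rcases hx with hx | hx
  · exact ⟨U, hx, PerfA.PerfLocal.isPerfect_of_iso (asIso ((adjD U).counit.app E)).symm hE⟩
  · exact ⟨V, hx, PerfA.PerfLocal.isPerfect_of_isZero (vanOn_rpush U V hdis E)⟩

section J

variable [DCoh.HasRpush U.ι]

/-- The direct image `D_perf(U) ⥤ D_perf(X)`. -/
noncomputable abbrev J : (SGA6.perfP (U : Scheme.{u})).FullSubcategory ⥤ (SGA6.perfP X).FullSubcategory :=
  (SGA6.perfP X).lift ((SGA6.perfP (U : Scheme.{u})).ι ⋙ DCoh.Rpush U.ι)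
    (fun K => isPerfect_rpush U V hUV hdis K.obj K.property)

theorem full_rpush : (DCoh.Rpush U.ι).Full := (adjD U).fullyFaithfulROfIsIsoCounit.full

theorem faithful_rpush : (DCoh.Rpush U.ι).Faithful := (adjD U).fullyFaithfulROfIsIsoCounit.faithful

theorem full_J : (J U V hUV hdis).Full := by
  have := full_rpush U
  infer_instance

theorem faithful_J : (J U V hUV hdis).Faithful := by
  have := faithful_rpush U
  infer_instance

variable [(SGA6.perfP (U : Scheme.{u})).IsTriangulated] [(SGA6.perfP X).IsTriangulated]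

theorem isTriang_J : PerfC.IsoLocus.IsTriang (J U V hUV hdis) := by
  obtain ⟨_, _⟩ := PerfC.ProjAbs291.isTriang_Rpush U.ι
  exact PerfC.IsoLocus.IsTriang.mk' _

omit [(SGA6.perfP (U : Scheme.{u})).IsTriangulated] [(SGA6.perfP X).IsTriangulated] in
include hUV hdis in
/-- The splitting. -/
theorem exists_split' [DCoh.HasRpush V.ι] (K : DCoh.D X) :
    ∃ (N : DCoh.D X) (i₁ : (DCoh.Rpush U.ι).obj ((restrictD U.ι).obj K) ⟶ K)
      (p₁ : K ⟶ (DCoh.Rpush U.ι).obj ((restrictD U.ι).obj K))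
      (i₀ : (DCoh.Rpush V.ι).obj ((restrictD V.ι).obj N) ⟶ K)
      (p₀ : K ⟶ (DCoh.Rpush V.ι).obj ((restrictD V.ι).obj N)),
      (DCoh.IsPerfect K → DCoh.IsPerfect N) ∧ p₁ ≫ i₁ + p₀ ≫ i₀ = 𝟙 K := by
  have := isTriangulated_perfP X
  obtain ⟨N, a, c, hT⟩ := distinguished_cocone_triangle₁ (η U K)
  have hN : vanOn U N := (Triangle.isZero₁_iff_isIso₂ _ ((restrictD U.ι).map_distinguished _ hT)).2
    (isIso_restrictD_η U K)
  have hVU : V ⊔ U = ⊤ := by rw [sup_comm]; exact hUV
  have hloc : IsLoc V N := isLoc_of_vanOn V U N (by rw [hVU]; exact isLoc_top N) hN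
  have hc : c = 0 := hloc.shift 1 _ (vanOn_rpush U V hdis _) c
  obtain ⟨i₁, hi₁⟩ : ∃ i₁ : (DCoh.Rpush U.ι).obj ((restrictD U.ι).obj K) ⟶ K, 𝟙 _ = i₁ ≫ η U K :=
    Triangle.coyoneda_exact₃ _ hT (𝟙 _) (by
      change 𝟙 _ ≫ c = 0
      rw [hc, comp_zero])
  obtain ⟨p, hp⟩ : ∃ p : K ⟶ N, 𝟙 K - η U K ≫ i₁ = p ≫ a :=
    Triangle.coyoneda_exact₂ _ hT (𝟙 K - η U K ≫ i₁) (by
      change (𝟙 K - η U K ≫ i₁) ≫ η U K = 0
      rw [Preadditive.sub_comp, Category.id_comp, Category.assoc, ← hi₁, Category.comp_id, sub_self])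
  have hη := isIso_η_of_isLoc V hloc
  refine ⟨N, i₁, η U K, inv (η V N) ≫ a, p ≫ η V N, fun hK => ?_, ?_⟩
  · have h1 : DCoh.IsPerfect ((DCoh.Rpush U.ι).obj ((restrictD U.ι).obj K)) :=
      isPerfect_rpush U V hUV hdis _ (PerfA.PerfLocal.isPerfect_restrictD U.ι hK)
    exact (SGA6.perfP X).ext_of_isTriangulatedClosed₁ _ hT hK h1
  · rw [Category.assoc, IsIso.hom_inv_id_assoc]
    rw [← hp]
    abel

end J

section Glue

variable [DCoh.HasRpush U.ι] [DCoh.HasRpush V.ι]
  {D : Type w} [Category.{v} D] [Preadditive D]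

include hUV hdis in
/-- **Glueing isomorphisms of functors.** -/
theorem glue (hVU : V ⊔ U = ⊤) (hdis' : V ⊓ U = ⊥) (F F' : (SGA6.perfP X).FullSubcategory ⥤ D) [F.Additive] [F'.Additive]
    (e₁ : J U V hUV hdis ⋙ F ≅ J U V hUV hdis ⋙ F') (e₀ : J V U hVU hdis' ⋙ F ≅ J V U hVU hdis' ⋙ F') :
    Nonempty (F ≅ F') := by
  have := full_J U V hUV hdis
  have := full_J V U hVU hdis'
  refine SplitIso.iso_of_two (J U V hUV hdis) (J V U hVU hdis') e₁ e₀ (fun A B f => ?_) (fun A B f => ?_) (fun K => ?_)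
  · exact ObjectProperty.hom_ext _ (isLoc_Rpush V _ _ (vanOn_rpush U V hdis _) f.hom)
  · exact ObjectProperty.hom_ext _ (isLoc_Rpush U _ _ (vanOn_rpush V U hdis' _) f.hom)
  · obtain ⟨N, i₁, p₁, i₀, p₀, hN, h⟩ := exists_split' U V hUV hdis K.obj
    exact ⟨⟨_, PerfA.PerfLocal.isPerfect_restrictD U.ι K.property⟩,
      ⟨_, PerfA.PerfLocal.isPerfect_restrictD V.ι (hN K.property)⟩,
      ObjectProperty.homMk i₁, ObjectProperty.homMk p₁, ObjectProperty.homMk i₀, ObjectProperty.homMk p₀,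
      ObjectProperty.hom_ext _ h⟩

end Glue

section Nat

variable [DCoh.HasRpush U.ι] [IsClosedImmersion U.ι]

instance : PreservesFiniteColimits (Scheme.Modules.pushforward U.ι) :=
  Sga67.ClosedPush.preservesFiniteColimits_pushforward _

/-- `Rj_*(M[0]) ≅ (j_* M)[0]`. -/
noncomputable def rho : DerivedCategory.singleFunctor (U : Scheme.{u}).Modules 0 ⋙ DCoh.Rpush U.ι ≅
    Scheme.Modules.pushforward U.ι ⋙ DerivedCategory.singleFunctor X.Modules 0 :=
  Functor.isoWhiskerLeft _ (PerfC.LpullFlat.rpushIso U.ι) ≪≫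
    (Scheme.Modules.pushforward U.ι).mapDerivedCategorySingleFunctor 0

include hUV hdis in
theorem perf_push {M : (U : Scheme.{u}).Modules} (hM : SGA6.perfP _ (DCoh.inD _ M)) :
    SGA6.perfP X (DCoh.inD X ((Scheme.Modules.pushforward U.ι).obj M)) :=
  PerfA.PerfLocal.isPerfect_of_iso ((rho U).app M) (isPerfect_rpush U V hUV hdis _ hM)

/-- `J(M[0]) ≅ (j_* M)[0]`. -/
noncomputable def rhoC (M : (U : Scheme.{u}).Modules) (hM : SGA6.perfP _ (DCoh.inD _ M)) :
    (J U V hUV hdis).obj ⟨DCoh.inD _ M, hM⟩ ≅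
      ⟨DCoh.inD X ((Scheme.Modules.pushforward U.ι).obj M), perf_push U V hUV hdis hM⟩ :=
  (SGA6.perfP X).isoMk ((rho U).app M)

variable [IsNoetherian X] [IsNoetherian (U : Scheme.{u})] [(SGA6.perfP (U : Scheme.{u})).IsTriangulated]
  [(SGA6.perfP X).IsTriangulated]
  {D : Type w} [Category.{v} D] [Preadditive D] [HasZeroObject D] [HasShift D ℤ]
  [∀ n : ℤ, (shiftFunctor D n).Additive] [Pretriangulated D]
  {F : (SGA6.perfP X).FullSubcategory ⥤ D} [F.CommShift ℤ] [F.IsTriangulated] {Φ : DCoh.D X ⥤ D}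

/-- Restriction of siblings to `U`. -/
noncomputable def natJ (τ : K160.SibSch.Nat F Φ) :
    K160.SibSch.Nat (J U V hUV hdis ⋙ F) (DCoh.Rpush U.ι ⋙ Φ) where
  e M hcM hM := F.mapIso (rhoC U V hUV hdis M hM) ≪≫
    τ.e _ (S0019.result U.ι M hcM) (perf_push U V hUV hdis hM) ≪≫ Φ.mapIso ((rho U).app M).symm
  nat M N hcM hcN hM hN φ := by
    have h1 := τ.nat _ _ (S0019.result U.ι M hcM) (S0019.result U.ι N hcN) (perf_push U V hUV hdis hM)
      (perf_push U V hUV hdis hN) ((Scheme.Modules.pushforward U.ι).map φ)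
    have h2 := (rho U).hom.naturality φ
    have h3 := (rho U).inv.naturality φ
    have h4 : (J U V hUV hdis).map (ObjectProperty.homMk ((DerivedCategory.singleFunctor (U : Scheme.{u}).Modules 0).map φ) :
        (⟨DCoh.inD _ M, hM⟩ : (SGA6.perfP (U : Scheme.{u})).FullSubcategory) ⟶ ⟨DCoh.inD _ N, hN⟩) ≫
          (rhoC U V hUV hdis N hN).hom = (rhoC U V hUV hdis M hM).hom ≫
          (ObjectProperty.homMk ((DerivedCategory.singleFunctor X.Modules 0).map
            ((Scheme.Modules.pushforward U.ι).map φ)) :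
            (⟨_, perf_push U V hUV hdis hM⟩ : (SGA6.perfP X).FullSubcategory) ⟶ ⟨_, perf_push U V hUV hdis hN⟩) :=
      ObjectProperty.hom_ext _ h2
    simp only [Iso.trans_hom, Functor.mapIso_hom, Iso.symm_hom, Iso.app_inv, Functor.comp_map, Category.assoc]
    rw [← Functor.map_comp_assoc, h4, Functor.map_comp_assoc]
    have h5 : (DerivedCategory.singleFunctor X.Modules 0).map ((Scheme.Modules.pushforward U.ι).map φ) ≫
        (rho U).inv.app N = (rho U).inv.app M ≫
        (DCoh.Rpush U.ι).map ((DerivedCategory.singleFunctor (U : Scheme.{u}).Modules 0).map φ) := h3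
    have h6 := congrArg Φ.map h5
    rw [Functor.map_comp, Functor.map_comp] at h6
    rw [reassoc_of% h1]
    exact congrArg (fun z => _ ≫ _ ≫ z) h6

end Nat

end K370.OpenClosed
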