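import Groth.Agent.DEquiv.K370.OpenClosed
import Groth.Agent.DEquiv.K370.IsoPts
import Groth.Agent.DEquiv.K357.NegAmple
import Groth.Agent.CalgB.ProjImm2
import Groth.Agent.DEquiv.K353.Calc
import Groth.Prelude.Def_RelProj
import Groth.Agent.Grpsch.PicGrp
import Groth.Agent.VarietyA.AmpleNegPow
import Groth.Agent.CycB.CohProp
import Groth.Agent.PerfC.DTens
import Groth.Agent.S1535
import Groth.Agent.Ega2.AmpleUnit

/-!
# Siblings of Fourier–Mukai functors on smooth projective schemes are isomorphic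

* `hneg`: on a regular projective scheme over a field without isolated closed points every coherent module `M` is a quotient
  of a coherent module `N` with `Hom(M, N) = 0`;
* `funIso`: let `X` be smooth projective over a field, `F : D_perf(X) ⥤ D` fully faithful exact, `Φ : D(X) ⥤ D` exact; if `F` and
  `Φ` agree naturally on coherent modules in degree `0`, then `F ≅ Φ` on `D_perf(X)`.
-/

set_option autoImplicit false

universe u v w

open CategoryTheory CategoryTheory.Limits AlgebraicGeometry Pretriangulated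

attribute [local instance] HasDerivedCategory.standard

namespace K370.Orlov

open Groth.Agent Groth.Agent.PerfC.IsoLocus OpenClosed IsoPts

lemma hom_sigma_eq_zero {C : Type*} [Category* C] [Abelian C] {κ : Type*} [Finite κ] {A : C} {B : κ → C}
    [HasCoproduct B] (h : ∀ i (f : A ⟶ B i), f = 0) (f : A ⟶ ∐ B) : f = 0 := by
  have : HasFiniteBiproducts C := Abelian.hasFiniteBiproducts
  have h1 : f ≫ (biproduct.isoCoproduct B).inv = 0 := by
    apply biproduct.hom_ext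
    intro i
    rw [zero_comp]
    exact h i _
  rw [← cancel_mono (biproduct.isoCoproduct B).inv, h1, zero_comp]

/-- Enough negative coherent modules. -/
theorem hneg (k : Type u) [Field k] {X : Scheme.{u}} [X.Over (Spec (.of k))] [IsProper (X ↘ Spec (.of k))]
    (hreg : Models.IsRegularScheme X) (hiso : ∀ x : X, IsClosed ({x} : Set X) → ¬ IsOpen ({x} : Set X))
    (hA : ∃ L : X.Modules, CohB1.IsAmple L) (M : X.Modules) (hM : Coh.IsCoh M) :
    ∃ (N : X.Modules) (p : N ⟶ M), Coh.IsCoh N ∧ Epi p ∧ ∀ f : M ⟶ N, f = 0 := by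
  have : IsLocallyNoetherian X := LocallyOfFiniteType.isLocallyNoetherian (X ↘ Spec (.of k))
  obtain ⟨L, hL⟩ := hA
  obtain ⟨P, hP, ⟨e⟩⟩ := Grpsch.PicGrp.exists_inverse hL.1
  obtain ⟨n₀, hn₀⟩ := K357.NegAmple.exists_hom_pow_eq_zero k hreg hiso hL ⟨e⟩ hM
  obtain ⟨N, hN, κ, hκ, φ, hφ⟩ := VarietyA.AmpleNegPow.exists_epi hL e n₀ hM.1 hM.2
  have hPN : Coh.IsCoh (CohB1.tensorPow P N) := PerfA.CohSerre.isCoh_of_isFinLocFree
    (K685.ResolAmple.isFinLocFree_of_isInvertible (Fdesc.LocGen.isInvertible_tensorPow hP N))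
  exact ⟨_, Sigma.desc φ, CycB.CohProp.isCoh_finite_coproduct _ fun _ => hPN, hφ,
    fun f => hom_sigma_eq_zero (fun _ g => hn₀ N hN g) f⟩

theorem exists_ample {k : Type u} [Field k] {X : Scheme.{u}} {f : X ⟶ Spec (.of k)} (hf : RelProj.IsHProjective f) :
    ∃ L : X.Modules, CohB1.IsAmple L :=
  ((CalgB.ProjImm.closedImmersion_iff ⟨_, Ega2.Weight.isAmple_structureModule (Spec (CommRingCat.of k))⟩ f).1 hf).2

section Main

variable {X : Scheme.{u}} [IsNoetherian X] [(SGA6.perfP X).IsTriangulated]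
  {D : Type w} [Category.{v} D] [Preadditive D] [HasZeroObject D] [HasShift D ℤ]
  [∀ n : ℤ, (shiftFunctor D n).Additive] [Pretriangulated D]
  {F : (SGA6.perfP X).FullSubcategory ⥤ D} [F.CommShift ℤ] [F.IsTriangulated] [F.Full] [F.Faithful] {Φ : DCoh.D X ⥤ D}

omit [AlgebraicGeometry.IsNoetherian X] [(SGA6.perfP X).IsTriangulated] [Preadditive D] [HasZeroObject D] [HasShift D ℤ]
  [∀ n : ℤ, (shiftFunctor D n).Additive] [Pretriangulated D] in
/-- `Φ` after `J`. -/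
noncomputable def lw (U V : X.Opens) (hUV : U ⊔ V = ⊤) (hdis : U ⊓ V = ⊥) [DCoh.HasRpush U.ι] (Φ : DCoh.D X ⥤ D) :
    (SGA6.perfP (U : Scheme.{u})).ι ⋙ (DCoh.Rpush U.ι ⋙ Φ) ≅ J U V hUV hdis ⋙ ((SGA6.perfP X).ι ⋙ Φ) :=
  Iso.refl _

/-- The abstract form. -/
theorem funIso_of (U V : X.Opens) (hUV : U ⊔ V = ⊤) (hdis : U ⊓ V = ⊥) (hVU : V ⊔ U = ⊤) (hdis' : V ⊓ U = ⊥)
    [DCoh.HasRpush U.ι] [DCoh.HasRpush V.ι] [IsClosedImmersion U.ι] [IsClosedImmersion V.ι]
    [IsNoetherian (U : Scheme.{u})] [IsNoetherian (V : Scheme.{u})] [DiscreteTopology (V : Scheme.{u})]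
    (hU : Models.IsRegularScheme (U : Scheme.{u})) (hV : Models.IsRegularScheme (V : Scheme.{u}))
    (hn : ∀ M : (U : Scheme.{u}).Modules, Coh.IsCoh M →
      ∃ (N : (U : Scheme.{u}).Modules) (p : N ⟶ M), Coh.IsCoh N ∧ Epi p ∧ ∀ f : M ⟶ N, f = 0)
    (hΦ : IsTriang Φ) (τ : K160.SibSch.Nat F Φ) : Nonempty (F ≅ (SGA6.perfP X).ι ⋙ Φ) := by
  have iU := isTriangulated_perfP (U : Scheme.{u})
  have iV := isTriangulated_perfP (V : Scheme.{u})
  have fU := full_J U V hUV hdis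
  have fU' := faithful_J U V hUV hdis
  have fV := full_J V U hVU hdis'
  have fV' := faithful_J V U hVU hdis'
  obtain ⟨_, _⟩ := isTriang_J U V hUV hdis
  obtain ⟨_, _⟩ := isTriang_J V U hVU hdis'
  have h1 := K160.SibSch.funIso (K160.CohHeart.perf_iff _ hU)
    ((PerfC.ProjAbs291.isTriang_Rpush U.ι).comp hΦ) (natJ U V hUV hdis τ) hn
  have h2 : Nonempty (J V U hVU hdis' ⋙ F ≅ (SGA6.perfP (V : Scheme.{u})).ι ⋙ (DCoh.Rpush V.ι ⋙ Φ)) := by
    obtain ⟨_, _⟩ := (PerfC.ProjAbs291.isTriang_Rpush V.ι).comp hΦ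
    exact SplitIso.iso_of_split (K160.CohHeart.heartData (K160.CohHeart.perf_iff _ hV))
      ((natJ V U hVU hdis' τ).tau (K160.CohHeart.perf_iff _ hV)) (fun X => isSum hV X)
  obtain ⟨_, _⟩ := hΦ
  have a1 : F.Additive := inferInstance
  have a2 : ((SGA6.perfP X).ι ⋙ Φ).Additive := inferInstance
  obtain ⟨e₁⟩ := h1
  obtain ⟨e₀⟩ := h2
  exact glue U V hUV hdis hVU hdis' F ((SGA6.perfP X).ι ⋙ Φ)
    (e₁ ≪≫ lw U V hUV hdis Φ) (e₀ ≪≫ lw V U hVU hdis' Φ)

theorem isRegular_opens {X : Scheme.{u}} (h : Models.IsRegularScheme X) (U : X.Opens) :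
    Models.IsRegularScheme (U : Scheme.{u}) := fun x => by
  have := h (U.ι x)
  exact IsRegularLocalRing.of_ringEquiv (asIso (U.ι.stalkMap x)).commRingCatIsoToRingEquiv

/-- **Siblings are isomorphic on smooth projective schemes.** -/
theorem funIso (k : Type u) [Field k] [X.Over (Spec (.of k))] [IsProper (X ↘ Spec (.of k))] [Smooth (X ↘ Spec (.of k))]
    (hproj : RelProj.IsHProjective (X ↘ Spec (.of k))) (hΦ : IsTriang Φ) (τ : K160.SibSch.Nat F Φ) :
    Nonempty (F ≅ (SGA6.perfP X).ι ⋙ Φ) := by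
  have hreg : Models.IsRegularScheme X := fun x => S1535.result k X x
  have rU : DCoh.HasRpush (UI X).ι := K353.Calc.hasRpush _
  have rV : DCoh.HasRpush (VI X).ι := K353.Calc.hasRpush _
  letI : ((UI X : X.Opens) : Scheme.{u}).Over (Spec (.of k)) := ⟨(UI X).ι ≫ (X ↘ Spec (.of k))⟩
  have hp : IsProper (((UI X : X.Opens) : Scheme.{u}) ↘ Spec (.of k)) :=
    inferInstanceAs (IsProper ((UI X).ι ≫ (X ↘ Spec (.of k))))
  have hA : ∃ L : ((UI X : X.Opens) : Scheme.{u}).Modules, CohB1.IsAmple L := by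
    obtain ⟨n, i, hi, hi'⟩ := hproj
    exact exists_ample (k := k) (f := (UI X).ι ≫ (X ↘ Spec (.of k)))
      ⟨n, (UI X).ι ≫ i, inferInstance, by rw [Category.assoc, hi']⟩
  exact funIso_of (UI X) (VI X) (UI_sup_VI X) (UI_inf_VI X) (by rw [sup_comm]; exact UI_sup_VI X)
    (by rw [inf_comm]; exact UI_inf_VI X) (isRegular_opens hreg _) (isRegular_opens hreg _)
    (hneg k (isRegular_opens hreg _) (not_isOpen_UI X) hA) hΦ τ

end Main

/-- S6768 from S6755. -/
theorem main (k : Type u) [Field k] (X Y : Scheme.{u}) [X.Over (Spec (.of k))] [Y.Over (Spec (.of k))]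
    [IsProper (X ↘ Spec (.of k))] [Smooth (X ↘ Spec (.of k))]
    (hproj : RelProj.IsHProjective (X ↘ Spec (.of k)))
    [(SGA6.perfP X).IsTriangulated] [(SGA6.perfP Y).IsTriangulated]
    (F : (SGA6.perfP X).FullSubcategory ⥤ (SGA6.perfP Y).FullSubcategory) [F.CommShift ℤ] [F.IsTriangulated]
    [F.Full] [F.Faithful]
    {W : Scheme.{u}} (p : W ⟶ X) (q : W ⟶ Y) [DCoh.HasLpull p] [DCoh.HasRpush q] (K : CochainComplex W.Modules ℤ)
    [DCoh.HasLTensorCx K]
    (h : ∃ e : ∀ (M : X.Modules), Coh.IsCoh M → ∀ (hM : SGA6.perfP X (DCoh.inD X M)),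
          (F.obj ⟨DCoh.inD X M, hM⟩).obj ≅ (DCoh.Lpull p ⋙ DCoh.LTensorCx K ⋙ DCoh.Rpush q).obj (DCoh.inD X M),
        ∀ (M N : X.Modules) (hcM : Coh.IsCoh M) (hcN : Coh.IsCoh N)
          (hM : SGA6.perfP X (DCoh.inD X M)) (hN : SGA6.perfP X (DCoh.inD X N)) (φ : M ⟶ N),
          (F.map (ObjectProperty.homMk ((DerivedCategory.singleFunctor X.Modules 0).map φ) :
              (⟨DCoh.inD X M, hM⟩ : (SGA6.perfP X).FullSubcategory) ⟶ ⟨DCoh.inD X N, hN⟩)).hom ≫ (e N hcN hN).hom =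
            (e M hcM hM).hom ≫ (DCoh.Lpull p ⋙ DCoh.LTensorCx K ⋙ DCoh.Rpush q).map
              ((DerivedCategory.singleFunctor X.Modules 0).map φ)) :
    Nonempty (F ⋙ ObjectProperty.ι (SGA6.perfP Y) ≅
      ObjectProperty.ι (SGA6.perfP X) ⋙ (DCoh.Lpull p ⋙ DCoh.LTensorCx K ⋙ DCoh.Rpush q)) := by
  have : IsLocallyNoetherian X := LocallyOfFiniteType.isLocallyNoetherian (X ↘ Spec (.of k))
  have : CompactSpace X := QuasiCompact.compactSpace_of_compactSpace (X ↘ Spec (.of k))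
  have : IsNoetherian X := {}
  obtain ⟨e, he⟩ := h
  exact funIso k hproj ((PerfC.ProjAbs291.isTriang_Lpull p).comp ((PerfC.DTens.isTriang_LTensorCx K).comp
    (PerfC.ProjAbs291.isTriang_Rpush q))) { e := e, nat := he }

end K370.Orlov
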