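import Groth.Agent.DEquiv.K350.SibIso
import Mathlib.Algebra.BigOperators.Fin

/-!
# Isomorphisms of functors checked on a class of direct summands

* `iso_of_class`: `F ≅ F'` if every object is a finite sum of objects of a class on which `F` and `F'` are naturally isomorphic;
* `iso_of_two`: the case of two full subcategories without maps between them;
* `iso_of_split`: siblings `F`, `F'`, `F` fully faithful, are isomorphic if every object is a finite sum of shifts of objects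
  of the heart.
-/

set_option autoImplicit false

universe v v' v'' u u' u''

namespace K370.SplitIso

open CategoryTheory CategoryTheory.Limits CategoryTheory.Pretriangulated CategoryTheory.Triangulated

section Class

variable {C : Type u} [Category.{v} C] [Preadditive C] {D : Type u'} [Category.{v'} D] [Preadditive D]
  {F F' : C ⥤ D} [F.Additive] [F'.Additive] (G : C → Prop)

/-- `X` is a finite sum of objects of the class `G`. -/
def IsSum (X : C) : Prop := ∃ (n : ℕ) (Z : Fin n → C) (_ : ∀ j, G (Z j)) (i : ∀ j, Z j ⟶ X) (p : ∀ j, X ⟶ Z j),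
  ∑ j, p j ≫ i j = 𝟙 X

lemma IsSum.of_mem {X : C} (hX : G X) : IsSum G X := ⟨1, fun _ => X, fun _ => hX, fun _ => 𝟙 X, fun _ => 𝟙 X, by simp⟩

lemma IsSum.of_isZero {X : C} (hX : ∀ f g : X ⟶ X, f = g) : IsSum G X :=
  ⟨0, fun j => j.elim0, fun j => j.elim0, fun j => j.elim0, fun j => j.elim0, hX _ _⟩

lemma IsSum.of_retracts {X X₁ X₂ : C} (h₁ : IsSum G X₁) (h₂ : IsSum G X₂) (i₁ : X₁ ⟶ X) (p₁ : X ⟶ X₁) (i₂ : X₂ ⟶ X)
    (p₂ : X ⟶ X₂) (h : p₁ ≫ i₁ + p₂ ≫ i₂ = 𝟙 X) : IsSum G X := by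
  obtain ⟨n, Z, hZ, i, p, hp⟩ := h₁
  obtain ⟨m, W, hW, j, q, hq⟩ := h₂
  refine ⟨n + m, Fin.addCases Z W, ?_, ?_, ?_, ?_⟩
  · intro a
    refine Fin.addCases (fun a => ?_) (fun a => ?_) a
    · simpa using hZ a
    · simpa using hW a
  · refine Fin.addCases (fun a => ?_) (fun a => ?_)
    · exact eqToHom (by simp) ≫ i a ≫ i₁
    · exact eqToHom (by simp) ≫ j a ≫ i₂
  · refine Fin.addCases (fun a => ?_) (fun a => ?_)
    · exact p₁ ≫ p a ≫ eqToHom (by simp)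
    · exact p₂ ≫ q a ≫ eqToHom (by simp)
  · rw [Fin.sum_univ_add]
    simp only [Fin.addCases_left, Fin.addCases_right, Category.assoc, eqToHom_trans_assoc, eqToHom_refl,
      Category.id_comp]
    have e1 : ∀ a, p₁ ≫ p a ≫ i a ≫ i₁ = p₁ ≫ (p a ≫ i a) ≫ i₁ := fun a => by simp
    have e2 : ∀ a, p₂ ≫ q a ≫ j a ≫ i₂ = p₂ ≫ (q a ≫ j a) ≫ i₂ := fun a => by simp
    simp only [e1, e2]
    rw [← Preadditive.comp_sum, ← Preadditive.comp_sum, ← Preadditive.sum_comp, ← Preadditive.sum_comp, hp, hq,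
      Category.id_comp, Category.id_comp, h]

/-- **`F ≅ F'` if they are naturally isomorphic on a class of objects of which every object is a finite sum.** -/
theorem iso_of_class (θ : ∀ X, G X → (F.obj X ≅ F'.obj X))
    (nat : ∀ (X Y : C) (hX : G X) (hY : G Y) (f : X ⟶ Y), F.map f ≫ (θ Y hY).hom = (θ X hX).hom ≫ F'.map f)
    (hsum : ∀ X, IsSum G X) : Nonempty (F ≅ F') := by
  choose n Z hZ i p hp using hsum
  let s (X : C) : F.obj X ⟶ F'.obj X := ∑ a, F.map (p X a) ≫ (θ _ (hZ X a)).hom ≫ F'.map (i X a)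
  let t (X : C) : F'.obj X ⟶ F.obj X := ∑ a, F'.map (p X a) ≫ (θ _ (hZ X a)).inv ≫ F.map (i X a)
  have hs : ∀ {X Y : C} (hX : G X) (f : X ⟶ Y), F.map f ≫ s Y = (θ X hX).hom ≫ F'.map f := by
    intro X Y hX f
    have h1 : ∀ a, F.map f ≫ F.map (p Y a) ≫ (θ _ (hZ Y a)).hom ≫ F'.map (i Y a) =
        (θ X hX).hom ≫ F'.map (f ≫ p Y a ≫ i Y a) := by
      intro a
      rw [← Functor.map_comp_assoc, reassoc_of% (nat _ _ hX (hZ Y a) (f ≫ p Y a)), ← Functor.map_comp, Category.assoc]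
    simp only [s]
    rw [Preadditive.comp_sum]
    simp only [h1]
    rw [← Preadditive.comp_sum, ← Functor.map_sum, ← Preadditive.comp_sum, hp, Category.comp_id]
  have ht : ∀ {X Y : C} (hX : G X) (f : X ⟶ Y), F'.map f ≫ t Y = (θ X hX).inv ≫ F.map f := by
    intro X Y hX f
    have nat' : ∀ (X Y : C) (hX : G X) (hY : G Y) (f : X ⟶ Y), F'.map f ≫ (θ Y hY).inv = (θ X hX).inv ≫ F.map f := by
      intro X Y hX hY f
      rw [Iso.comp_inv_eq, Category.assoc, nat X Y hX hY, Iso.inv_hom_id_assoc]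
    have h1 : ∀ a, F'.map f ≫ F'.map (p Y a) ≫ (θ _ (hZ Y a)).inv ≫ F.map (i Y a) =
        (θ X hX).inv ≫ F.map (f ≫ p Y a ≫ i Y a) := by
      intro a
      rw [← Functor.map_comp_assoc, reassoc_of% (nat' _ _ hX (hZ Y a) (f ≫ p Y a)), ← Functor.map_comp, Category.assoc]
    simp only [t]
    rw [Preadditive.comp_sum]
    simp only [h1]
    rw [← Preadditive.comp_sum, ← Functor.map_sum, ← Preadditive.comp_sum, hp, Category.comp_id]
  have hid : ∀ (X : C) {A : D} (f g : F.obj X ⟶ A), (∀ a, F.map (i X a) ≫ f = F.map (i X a) ≫ g) → f = g := by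
    intro X A f g h
    rw [← Category.id_comp f, ← Category.id_comp g, ← F.map_id, ← hp X, F.map_sum, Preadditive.sum_comp,
      Preadditive.sum_comp]
    refine Finset.sum_congr rfl fun a _ => ?_
    rw [Functor.map_comp, Category.assoc, Category.assoc, h]
  have hid' : ∀ (X : C) {A : D} (f g : F'.obj X ⟶ A), (∀ a, F'.map (i X a) ≫ f = F'.map (i X a) ≫ g) → f = g := by
    intro X A f g h
    rw [← Category.id_comp f, ← Category.id_comp g, ← F'.map_id, ← hp X, F'.map_sum, Preadditive.sum_comp,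
      Preadditive.sum_comp]
    refine Finset.sum_congr rfl fun a _ => ?_
    rw [Functor.map_comp, Category.assoc, Category.assoc, h]
  have hst : ∀ X, s X ≫ t X = 𝟙 _ := fun X => hid X _ _ fun a => by
    rw [reassoc_of% (hs (hZ X a) (i X a)), ht (hZ X a), Iso.hom_inv_id_assoc, Category.comp_id]
  have hts : ∀ X, t X ≫ s X = 𝟙 _ := fun X => hid' X _ _ fun a => by
    rw [reassoc_of% (ht (hZ X a) (i X a)), hs (hZ X a), Iso.inv_hom_id_assoc, Category.comp_id]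
  refine ⟨NatIso.ofComponents (fun X => ⟨s X, t X, hst X, hts X⟩) fun {X Y} f => ?_⟩
  change F.map f ≫ s Y = s X ≫ F'.map f
  refine hid X _ _ fun a => ?_
  rw [← Functor.map_comp_assoc, hs (hZ X a), Functor.map_comp, ← Category.assoc, ← Category.assoc, hs (hZ X a)]

end Class

section Two

variable {C : Type u} [Category.{v} C] [Preadditive C] {D : Type u'} [Category.{v'} D] [Preadditive D]
  {F F' : C ⥤ D} [F.Additive] [F'.Additive] {C₁ : Type*} [Category* C₁] {C₀ : Type*} [Category* C₀]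
  (J₁ : C₁ ⥤ C) (J₀ : C₀ ⥤ C) [J₁.Full] [J₀.Full]

omit [Preadditive C] [Preadditive D] [F.Additive] [F'.Additive] [J₀.Full] in
lemma nat_of_full (e₁ : J₁ ⋙ F ≅ J₁ ⋙ F') {X Y : C} {X' Y' : C₁} (a : J₁.obj X' ≅ X) (b : J₁.obj Y' ≅ Y) (f : X ⟶ Y) :
    F.map f ≫ (F.mapIso b.symm ≪≫ e₁.app _ ≪≫ F'.mapIso b).hom =
      (F.mapIso a.symm ≪≫ e₁.app _ ≪≫ F'.mapIso a).hom ≫ F'.map f := by
  obtain ⟨g, hg⟩ := J₁.map_surjective (a.hom ≫ f ≫ b.inv)
  have h1 := e₁.hom.naturality g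
  simp only [Functor.comp_map, hg, Functor.map_comp, Category.assoc] at h1
  simp only [Iso.trans_hom, Functor.mapIso_hom, Iso.symm_hom, Iso.app_hom, Category.assoc]
  rw [← cancel_epi (F.map a.hom), reassoc_of% h1, Iso.map_hom_inv_id_assoc, Iso.map_inv_hom_id, Category.comp_id]

/-- Two full subcategories without maps between them. -/
theorem iso_of_two (e₁ : J₁ ⋙ F ≅ J₁ ⋙ F') (e₀ : J₀ ⋙ F ≅ J₀ ⋙ F')
    (h₁₀ : ∀ X Y (f : J₁.obj X ⟶ J₀.obj Y), f = 0) (h₀₁ : ∀ X Y (f : J₀.obj X ⟶ J₁.obj Y), f = 0)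
    (hsum : ∀ X : C, ∃ (X₁ : C₁) (X₀ : C₀) (i₁ : J₁.obj X₁ ⟶ X) (p₁ : X ⟶ J₁.obj X₁) (i₀ : J₀.obj X₀ ⟶ X)
      (p₀ : X ⟶ J₀.obj X₀), p₁ ≫ i₁ + p₀ ≫ i₀ = 𝟙 X) : Nonempty (F ≅ F') := by
  classical
  let G₁ : C → Prop := fun X => ∃ X₁ : C₁, Nonempty (J₁.obj X₁ ≅ X)
  let G₀ : C → Prop := fun X => ∃ X₀ : C₀, Nonempty (J₀.obj X₀ ≅ X)
  let G : C → Prop := fun X => G₁ X ∨ G₀ X
  let θ₁ (X : C) (hX : G₁ X) : F.obj X ≅ F'.obj X :=
    F.mapIso hX.choose_spec.some.symm ≪≫ e₁.app _ ≪≫ F'.mapIso hX.choose_spec.some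
  let θ₀ (X : C) (hX : G₀ X) : F.obj X ≅ F'.obj X :=
    F.mapIso hX.choose_spec.some.symm ≪≫ e₀.app _ ≪≫ F'.mapIso hX.choose_spec.some
  let θ (X : C) (hX : G X) : F.obj X ≅ F'.obj X :=
    if h : G₁ X then θ₁ X h else θ₀ X (hX.resolve_left h)
  have nat₁ : ∀ (X Y : C) (hX : G₁ X) (hY : G₁ Y) (f : X ⟶ Y),
      F.map f ≫ (θ₁ Y hY).hom = (θ₁ X hX).hom ≫ F'.map f := by
    intro X Y hX hY f
    exact nat_of_full J₁ e₁ _ _ f
  have nat₀ : ∀ (X Y : C) (hX : G₀ X) (hY : G₀ Y) (f : X ⟶ Y),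
      F.map f ≫ (θ₀ Y hY).hom = (θ₀ X hX).hom ≫ F'.map f := by
    intro X Y hX hY f
    exact nat_of_full J₀ e₀ _ _ f
  have van₁₀ : ∀ (X Y : C) (_ : G₁ X) (_ : G₀ Y) (f : X ⟶ Y), f = 0 := by
    rintro _ _ ⟨X, ⟨a⟩⟩ ⟨Y, ⟨b⟩⟩ f
    rw [← cancel_epi a.hom, ← cancel_mono b.inv, h₁₀ X Y ((a.hom ≫ f) ≫ b.inv), comp_zero, zero_comp]
  have van₀₁ : ∀ (X Y : C) (_ : G₀ X) (_ : G₁ Y) (f : X ⟶ Y), f = 0 := by
    rintro _ _ ⟨X, ⟨a⟩⟩ ⟨Y, ⟨b⟩⟩ f
    rw [← cancel_epi a.hom, ← cancel_mono b.inv, h₀₁ X Y ((a.hom ≫ f) ≫ b.inv), comp_zero, zero_comp]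
  refine iso_of_class G θ (fun X Y hX hY f => ?_) fun X => ?_
  · by_cases h1 : G₁ X
    · by_cases h2 : G₁ Y
      · simp only [θ, dif_pos h1, dif_pos h2]
        exact nat₁ X Y h1 h2 f
      · rw [van₁₀ X Y h1 (hY.resolve_left h2) f, Functor.map_zero, Functor.map_zero, zero_comp, comp_zero]
    · by_cases h2 : G₁ Y
      · rw [van₀₁ X Y (hX.resolve_left h1) h2 f, Functor.map_zero, Functor.map_zero, zero_comp, comp_zero]
      · simp only [θ, dif_neg h1, dif_neg h2]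
        exact nat₀ X Y _ _ f
  · obtain ⟨X₁, X₀, i₁, p₁, i₀, p₀, h⟩ := hsum X
    exact IsSum.of_retracts G (IsSum.of_mem G (Or.inl ⟨X₁, ⟨Iso.refl _⟩⟩))
      (IsSum.of_mem G (Or.inr ⟨X₀, ⟨Iso.refl _⟩⟩)) i₁ p₁ i₀ p₀ h

end Two

section Heart

variable {A : Type u} [Category.{v} A] [Abelian A]
  {C : Type u'} [Category.{v'} C] [Preadditive C] [HasZeroObject C] [HasShift C ℤ]
  [∀ n : ℤ, (shiftFunctor C n).Additive] [Pretriangulated C]
  {D : Type u''} [Category.{v''} D] [Preadditive D] [HasZeroObject D] [HasShift D ℤ]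
  [∀ n : ℤ, (shiftFunctor D n).Additive] [Pretriangulated D]
  {t : TStructure C} {ι : A ⥤ C} (h : K350.HD.HeartData t ι) {F F' : C ⥤ D} [F.CommShift ℤ]
  [F.IsTriangulated] [F'.CommShift ℤ] [F'.IsTriangulated] (τ : ι ⋙ F ≅ ι ⋙ F')

include h τ in
/-- Siblings are isomorphic if every object is a sum of shifts of objects of the heart. -/
theorem iso_of_split [F.Full] [F.Faithful]
    (hsum : ∀ X : C, IsSum (fun Z => ∃ (M : A) (m : ℤ), Nonempty ((ι.obj M)⟦m⟧ ≅ Z)) X) : Nonempty (F ≅ F') := by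
  refine iso_of_class (fun Z => ∃ (M : A) (m : ℤ), Nonempty ((ι.obj M)⟦m⟧ ≅ Z))
    (fun Z hZ => F.mapIso hZ.choose_spec.choose_spec.some.symm ≪≫
      K350.Th.th τ hZ.choose_spec.choose hZ.choose ≪≫ F'.mapIso hZ.choose_spec.choose_spec.some) ?_ hsum
  intro X Y hX hY f
  have h1 := K350.Sib.th_natural' h τ hX.choose hY.choose hX.choose_spec.choose hY.choose_spec.choose
    (hX.choose_spec.choose_spec.some.hom ≫ f ≫ hY.choose_spec.choose_spec.some.inv)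
  simp only [Functor.map_comp, Category.assoc] at h1
  simp only [Iso.trans_hom, Functor.mapIso_hom, Iso.symm_hom, Category.assoc]
  rw [← cancel_epi (F.map hX.choose_spec.choose_spec.some.hom), reassoc_of% h1, Iso.map_hom_inv_id_assoc,
    Iso.map_inv_hom_id, Category.comp_id]

end Heart

end K370.SplitIso
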