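import Mathlib.CategoryTheory.Triangulated.Functor
import Mathlib.CategoryTheory.Triangulated.Pretriangulated

/-!
# Postnikov systems (convolutions) in a pretriangulated category

`Tower X d` for a sequence `⋯ ⟶ X 2 ⟶ X 1 ⟶ X 0`: objects `Y n`, maps `j n : Y n ⟶ X n`, `p n : X (n+1) ⟶ Y n` with
`p n ≫ j n = d n` and distinguished triangles `Y (n+1) ⟶ X (n+1) ⟶ Y n ⟶ Y (n+1)⟦1⟧`. They exist and are unique when
`d ≫ d = 0` and there are no maps `X i ⟶ (X j)⟦a⟧` with `a < 0`.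
-/

set_option autoImplicit false
set_option linter.unusedSectionVars false
set_option linter.dupNamespace false

universe v u v' u'

open CategoryTheory CategoryTheory.Limits CategoryTheory.Pretriangulated

namespace K370.Tower

variable {C : Type u} [Category.{v} C] [Preadditive C] [HasZeroObject C] [HasShift C ℤ]
  [∀ n : ℤ, (shiftFunctor C n).Additive] [Pretriangulated C]

/-- No maps `A⟦r⟧ ⟶ B` with `r > 0`. -/
def HomVan (A B : C) : Prop := ∀ r : ℤ, 0 < r → ∀ f : A⟦r⟧ ⟶ B, f = 0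

/-- No maps `A i ⟶ (B j)⟦a⟧` with `a < 0`. -/
def NV (A B : ℕ → C) : Prop := ∀ (i j : ℕ) (a : ℤ), a < 0 → ∀ f : A i ⟶ (B j)⟦a⟧, f = 0

theorem homVan_of {A B : C} (h : ∀ a : ℤ, a < 0 → ∀ f : A ⟶ B⟦a⟧, f = 0) : HomVan A B := by
  intro r hr f
  have h1 := h (-r) (by lia) ((shiftShiftNeg A r).inv ≫ f⟦-r⟧')
  have h2 : f⟦-r⟧' = 0 := by
    rw [← cancel_epi (shiftShiftNeg A r).inv, h1, comp_zero]
  exact (shiftFunctor C (-r)).map_injective (h2.trans (Functor.map_zero _ _ _).symm)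

theorem of_homVan {A B : C} (h : HomVan A B) (a : ℤ) (ha : a < 0) (f : A ⟶ B⟦a⟧) : f = 0 := by
  have h1 := h (-a) (by lia) (f⟦-a⟧' ≫ (shiftShiftNeg B a).hom)
  have h2 : f⟦-a⟧' = 0 := by
    rw [← cancel_mono (shiftShiftNeg B a).hom, h1, zero_comp]
  exact (shiftFunctor C (-a)).map_injective (h2.trans (Functor.map_zero _ _ _).symm)

theorem NV.homVan {A B : ℕ → C} (h : NV A B) (i j : ℕ) : HomVan (A i) (B j) := homVan_of (h i j)

theorem nv_of_homVan {A B : ℕ → C} (h : ∀ i j, HomVan (A i) (B j)) : NV A B := fun i j => of_homVan (h i j)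

theorem HomVan.of_iso {A A' B B' : C} (h : HomVan A B) (e : A ≅ A') (e' : B ≅ B') : HomVan A' B' := by
  intro r hr f
  have := h r hr ((shiftFunctor C r).map e.hom ≫ f ≫ e'.inv)
  rw [← cancel_epi ((shiftFunctor C r).map e.hom), ← cancel_mono e'.inv, Category.assoc, this]
  simp

theorem HomVan.shift_mor {A B : C} (h : HomVan A B) {r : ℤ} (hr : 0 < r) (f : (A⟦r⟧)⟦(1 : ℤ)⟧ ⟶ B) : f = 0 := by
  have := h (r + 1) (by lia) ((shiftFunctorAdd C r 1).hom.app A ≫ f)
  rw [← cancel_epi ((shiftFunctorAdd C r 1).hom.app A), this, comp_zero]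

theorem HomVan.third {A : C} {Y' X Y : C} {q : Y' ⟶ X} {p : X ⟶ Y} {δ : Y ⟶ Y'⟦(1 : ℤ)⟧}
    (hT : Triangle.mk q p δ ∈ distTriang C) (hX : HomVan A X) (hY : HomVan A Y) : HomVan A Y' := by
  intro r hr f
  have h0 : f ≫ q = 0 := hX r hr _
  obtain ⟨g, hg⟩ := Triangle.coyoneda_exact₁ _ hT (f⟦(1 : ℤ)⟧') (by
    change (shiftFunctor C (1 : ℤ)).map f ≫ (shiftFunctor C (1 : ℤ)).map q = 0
    rw [← Functor.map_comp, h0, Functor.map_zero])
  have hg0 : g = 0 := hY.shift_mor hr g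
  rw [hg0, zero_comp] at hg
  exact (shiftFunctor C (1 : ℤ)).map_injective (hg.trans (Functor.map_zero _ _ _).symm)

theorem inj_of_van {A : C} {Y' X Y : C} {q : Y' ⟶ X} {p : X ⟶ Y} {δ : Y ⟶ Y'⟦(1 : ℤ)⟧}
    (hT : Triangle.mk q p δ ∈ distTriang C) (hY : HomVan A Y) (g : A ⟶ Y') (hg : g ≫ q = 0) : g = 0 := by
  obtain ⟨h, hh⟩ := Triangle.coyoneda_exact₁ _ hT (g⟦(1 : ℤ)⟧') (by
    change (shiftFunctor C (1 : ℤ)).map g ≫ (shiftFunctor C (1 : ℤ)).map q = 0
    rw [← Functor.map_comp, hg, Functor.map_zero])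
  have hg0 : h = 0 := hY 1 one_pos h
  rw [hg0, zero_comp] at hh
  exact (shiftFunctor C (1 : ℤ)).map_injective (hh.trans (Functor.map_zero _ _ _).symm)

variable (X : ℕ → C) (d : ∀ n, X (n + 1) ⟶ X n)

/-- A Postnikov system. -/
structure Tower where
  /-- The partial convolutions, `Y n = Tot(X_n ⟶ ⋯ ⟶ X_0)[-n]`. -/
  Y : ℕ → C
  /-- The projections. -/
  j : ∀ n, Y n ⟶ X n
  /-- The lifted differentials. -/
  p : ∀ n, X (n + 1) ⟶ Y n
  /-- The connecting morphisms. -/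
  δ : ∀ n, Y n ⟶ (Y (n + 1))⟦(1 : ℤ)⟧
  iso0 : IsIso (j 0)
  fac : ∀ n, p n ≫ j n = d n
  dist : ∀ n, Triangle.mk (j (n + 1)) (p n) (δ n) ∈ distTriang C

variable {X d}

theorem Tower.van (P : Tower X d) (A : C) (hA : ∀ j, HomVan A (X j)) (i : ℕ) : HomVan A (P.Y i) := by
  induction i with
  | zero =>
    have := P.iso0
    exact (hA 0).of_iso (Iso.refl A) (asIso (P.j 0)).symm
  | succ i ih => exact HomVan.third (P.dist i) (hA (i + 1)) ih

theorem Tower.inj (P : Tower X d) (A : C) (hA : ∀ j, HomVan A (X j)) (i : ℕ) (g : A ⟶ P.Y i) (hg : g ≫ P.j i = 0) :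
    g = 0 := by
  cases i with
  | zero =>
    have := P.iso0
    rwa [← cancel_mono (P.j 0), zero_comp]
  | succ i => exact inj_of_van (P.dist i) (P.van A hA i) g hg

section Exist

variable (X d)

/-- The lifting condition. -/
def Cond : (i : ℕ) → (A : C) → (A ⟶ X i) → Prop
  | 0, _, _ => True
  | (i + 1), _, f => f ≫ d i = 0

/-- A stage of the recursive construction. -/
structure St (i : ℕ) where
  /-- The object. -/
  Y : C
  /-- The projection. -/
  q : Y ⟶ X i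
  van : ∀ A : C, (∀ j, HomVan A (X j)) → HomVan A Y
  inj : ∀ A : C, (∀ j, HomVan A (X j)) → ∀ g : A ⟶ Y, g ≫ q = 0 → g = 0
  lift : ∀ A : C, (∀ j, HomVan A (X j)) → ∀ f : A ⟶ X i, Cond X d i A f → ∃ g : A ⟶ Y, g ≫ q = f

/-- The first stage. -/
def st0 : St X d 0 where
  Y := X 0
  q := 𝟙 _
  van A hA := hA 0
  inj A hA g hg := by simpa using hg
  lift A hA f _ := ⟨f, Category.comp_id _⟩

variable {X d}

theorem exists_next (hd : ∀ i, d (i + 1) ≫ d i = 0) (hX : ∀ i j, HomVan (X i) (X j)) (i : ℕ) (S : St X d i) :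
    ∃ (S' : St X d (i + 1)) (p : X (i + 1) ⟶ S.Y) (δ : S.Y ⟶ S'.Y⟦(1 : ℤ)⟧), p ≫ S.q = d i ∧
      Triangle.mk S'.q p δ ∈ distTriang C := by
  obtain ⟨p, hp⟩ := S.lift (X (i + 1)) (hX (i + 1)) (d i) (by
    cases i with
    | zero => trivial
    | succ i => exact hd i)
  obtain ⟨Y', q', δ, hT⟩ := distinguished_cocone_triangle₁ p
  refine ⟨⟨Y', q', fun A hA => HomVan.third hT (hA (i + 1)) (S.van A hA),
    fun A hA g hg => inj_of_van hT (S.van A hA) g hg, fun A hA f hf => ?_⟩, p, δ, hp, hT⟩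
  have hf' : f ≫ d i = 0 := hf
  have h1 : f ≫ p = 0 := S.inj A hA _ (by rw [Category.assoc, hp, hf'])
  obtain ⟨g, hg⟩ := Triangle.coyoneda_exact₂ _ hT f h1
  exact ⟨g, hg.symm⟩

/-- Existence of Postnikov systems. -/
theorem nonempty_tower' (hd : ∀ i, d (i + 1) ≫ d i = 0) (hX : ∀ i j, HomVan (X i) (X j)) : Nonempty (Tower X d) := by
  choose nx p δ h1 h2 using exists_next hd hX
  let S : ∀ i, St X d i := fun i => Nat.rec (st0 X d) nx i
  exact ⟨{ Y := fun i => (S i).Y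
           j := fun i => (S i).q
           p := fun i => p i (S i)
           δ := fun i => δ i (S i)
           iso0 := inferInstanceAs (IsIso (𝟙 (X 0)))
           fac := fun i => h1 i (S i)
           dist := fun i => h2 i (S i) }⟩

/-- **Existence of Postnikov systems.** -/
theorem nonempty_tower (hd : ∀ n, d (n + 1) ≫ d n = 0) (h : NV X X) : Nonempty (Tower X d) :=
  nonempty_tower' hd h.homVan

end Exist

section Unique

variable {X' : ℕ → C} {d' : ∀ n, X' (n + 1) ⟶ X' n}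

/-- Uniqueness of Postnikov systems, with compatibility. -/
theorem exists_iso' (P : Tower X d) (P' : Tower X' d') (hX : ∀ i j, HomVan (X i) (X' j)) (f : ∀ i, X i ≅ X' i)
    (hf : ∀ i, d i ≫ (f i).hom = (f (i + 1)).hom ≫ d' i) (i : ℕ) :
    ∃ g : P.Y i ≅ P'.Y i, g.hom ≫ P'.j i = P.j i ≫ (f i).hom := by
  induction i with
  | zero =>
    have := P.iso0
    have := P'.iso0
    exact ⟨asIso (P.j 0) ≪≫ f 0 ≪≫ (asIso (P'.j 0)).symm, by simp⟩
  | succ i ih =>
    obtain ⟨g, hg⟩ := ih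
    have h1 : P.p i ≫ g.hom = (f (i + 1)).hom ≫ P'.p i := by
      rw [← sub_eq_zero]
      refine P'.inj _ (hX (i + 1)) i _ ?_
      rw [Preadditive.sub_comp, Category.assoc, hg, ← Category.assoc, P.fac, Category.assoc, P'.fac, hf, sub_self]
    obtain ⟨a, ha, ha'⟩ := complete_distinguished_triangle_morphism₁ _ _ (P.dist i) (P'.dist i) (f (i + 1)).hom g.hom h1
    let φ : Triangle.mk (P.j (i + 1)) (P.p i) (P.δ i) ⟶ Triangle.mk (P'.j (i + 1)) (P'.p i) (P'.δ i) :=
      { hom₁ := a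
        hom₂ := (f (i + 1)).hom
        hom₃ := g.hom
        comm₁ := ha
        comm₂ := h1
        comm₃ := ha' }
    have : IsIso φ.hom₂ := inferInstanceAs (IsIso (f (i + 1)).hom)
    have : IsIso φ.hom₃ := inferInstanceAs (IsIso g.hom)
    have h2 : IsIso φ.hom₁ := isIso₁_of_isIso₂₃ φ (P.dist i) (P'.dist i) inferInstance inferInstance
    exact ⟨@asIso C _ (P.Y (i + 1)) (P'.Y (i + 1)) a h2, ha.symm⟩

/-- **Uniqueness of Postnikov systems.** -/
theorem exists_iso (T : Tower X d) (T' : Tower X' d') (h : NV X X') (e : ∀ n, X n ≅ X' n)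
    (he : ∀ n, d n ≫ (e n).hom = (e (n + 1)).hom ≫ d' n) : ∀ n, Nonempty (T.Y n ≅ T'.Y n) :=
  fun n => ⟨(exists_iso' T T' h.homVan e he n).choose⟩

end Unique

section Map

variable {D : Type u'} [Category.{v'} D] [Preadditive D] [HasZeroObject D] [HasShift D ℤ]
  [∀ n : ℤ, (shiftFunctor D n).Additive] [Pretriangulated D]

/-- The image of a Postnikov system under an exact functor. -/
@[simps Y]
def Tower.map (P : Tower X d) (F : C ⥤ D) [F.CommShift ℤ] [F.IsTriangulated] :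
    Tower (fun i => F.obj (X i)) (fun i => F.map (d i)) where
  Y i := F.obj (P.Y i)
  j i := F.map (P.j i)
  p i := F.map (P.p i)
  δ i := F.map (P.δ i) ≫ (F.commShiftIso (1 : ℤ)).hom.app _
  iso0 := by
    have := P.iso0
    infer_instance
  fac i := by rw [← F.map_comp, P.fac]
  dist i := F.map_distinguished _ (P.dist i)

end Map

end K370.Tower
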